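/-
Positive functions on the elements regular modulo a normal subgroup (the Fong–Swan induction),
namespace `Cfsg.Agent.ProjPositive`.

* `Reg p L x` : `x` has a power of exponent prime to `p` in `L`
* `cut` : restriction to those elements, extended by zero
* `proj L θ` : the projection on the characters over the invariant character `θ` of `L`
* `proj_irr`, `classInner_proj`, `isCharacter_proj` : its effect on characters
* `Positive`, `Basis` : the positive functions and a free basis of them by cut characters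
-/
import Cfsg.Agent.EqLemmas
import Cfsg.Agent.Lib.CharApp.Clifford
import Cfsg.Prelude.Def_CharExt

set_option autoImplicit false
set_option linter.style.haveILetI false

namespace Cfsg.Agent.ProjPositive

open Cfsg Cfsg.Agent.Char
open scoped ComplexConjugate

variable {G : Type*} [Group G] {p : ℕ}

/-- `x` is regular modulo `L`. -/
def Reg (p : ℕ) (L : Subgroup G) (x : G) : Prop := ∃ n : ℕ, ¬ p ∣ n ∧ x ^ n ∈ L

theorem reg_of_mem [hp : Fact p.Prime] {L : Subgroup G} {x : G} (h : x ∈ L) : Reg p L x :=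
  ⟨1, hp.out.not_dvd_one, by rwa [pow_one]⟩

theorem Reg.mono {L L' : Subgroup G} (hle : L ≤ L') {x : G} (h : Reg p L x) : Reg p L' x := by
  obtain ⟨n, hn, hx⟩ := h
  exact ⟨n, hn, hle hx⟩

theorem reg_conj {L : Subgroup G} [hL : L.Normal] (g x : G) :
    Reg p L (g * x * g⁻¹) ↔ Reg p L x := by
  constructor <;> rintro ⟨n, hn, hx⟩ <;> refine ⟨n, hn, ?_⟩
  · rw [conj_pow] at hx
    simpa [mul_assoc] using hL.conj_mem _ hx g⁻¹
  · rw [conj_pow]
    exact hL.conj_mem _ hx g

theorem reg_mul_left {L : Subgroup G} [hL : L.Normal] {l : G} (hl : l ∈ L) (x : G) :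
    Reg p L (l * x) ↔ Reg p L x := by
  have h : ∀ n : ℕ, (l * x) ^ n ∈ L ↔ x ^ n ∈ L := fun n => by
    rw [← QuotientGroup.eq_one_iff, ← QuotientGroup.eq_one_iff (N := L) (x ^ n),
      QuotientGroup.mk_pow, QuotientGroup.mk_pow, QuotientGroup.mk_mul,
      (QuotientGroup.eq_one_iff l).2 hl, one_mul]
  simp only [Reg, h]

theorem reg_subgroupOf {L T : Subgroup G} (x : T) :
    Reg p (L.subgroupOf T) x ↔ Reg p L (x : G) := by
  simp [Reg, Subgroup.mem_subgroupOf]

theorem reg_bot_iff (x : G) : Reg p (⊥ : Subgroup G) x ↔ ¬ p ∣ orderOf x := by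
  constructor
  · rintro ⟨n, hn, hx⟩ hd
    exact hn (hd.trans (orderOf_dvd_of_pow_eq_one (Subgroup.mem_bot.1 hx)))
  · exact fun h => ⟨orderOf x, h, by simp⟩

/-- Restriction to the regular elements, extended by zero. -/
noncomputable def cut (p : ℕ) (L : Subgroup G) (f : G → ℂ) : G → ℂ := {x | Reg p L x}.indicator f

theorem cut_of_reg {L : Subgroup G} (f : G → ℂ) {x : G} (h : Reg p L x) : cut p L f x = f x :=
  Set.indicator_of_mem (s := {x | Reg p L x}) h f

theorem cut_of_not {L : Subgroup G} (f : G → ℂ) {x : G} (h : ¬ Reg p L x) : cut p L f x = 0 :=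
  Set.indicator_of_notMem (s := {x | Reg p L x}) h f

theorem cut_smul (L : Subgroup G) (c : ℂ) (f : G → ℂ) : cut p L (c • f) = c • cut p L f := by
  funext x
  by_cases h : Reg p L x
  · simp [cut_of_reg _ h]
  · simp [cut_of_not _ h]

theorem cut_sum (L : Subgroup G) {ι : Type*} (s : Finset ι) (f : ι → G → ℂ) :
    cut p L (∑ i ∈ s, f i) = ∑ i ∈ s, cut p L (f i) := by
  funext x
  by_cases h : Reg p L x
  · simp [cut_of_reg _ h, Finset.sum_apply]
  · simp [cut_of_not _ h, Finset.sum_apply]

theorem isClassFunction_cut {L : Subgroup G} [L.Normal] {f : G → ℂ} (hf : IsClassFunction G f) :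
    IsClassFunction G (cut p L f) := fun g h => by
  by_cases hr : Reg p L g
  · rw [cut_of_reg _ hr, cut_of_reg _ ((reg_conj h g).2 hr), hf]
  · rw [cut_of_not _ hr, cut_of_not _ (mt (reg_conj h g).1 hr)]

theorem cut_comp {L T : Subgroup G} (f : G → ℂ) :
    (fun t : T => cut p L f t) = cut p (L.subgroupOf T) (fun t : T => f t) := by
  funext t
  by_cases h : Reg p L (t : G)
  · rw [cut_of_reg _ h, cut_of_reg _ ((reg_subgroupOf t).2 h)]
  · rw [cut_of_not _ h, cut_of_not _ (mt (reg_subgroupOf t).1 h)]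

/-- The projection on the characters over `θ`. Only the values of `θ` on `L` are used. -/
noncomputable def proj (L : Subgroup G) (θ f : G → ℂ) : G → ℂ :=
  fun x => θ 1 / (Nat.card L : ℂ) * ∑ᶠ l : L, conj (θ l) * f (l * x)

/-- `θ` is an invariant irreducible character of the normal subgroup `L`. -/
structure Inv (L : Subgroup G) (θ : G → ℂ) : Prop where
  normal : L.Normal
  irr : IsIrrCharacter L (fun l : L => θ l)
  inv : ∀ g : G, ∀ l ∈ L, θ (g * l * g⁻¹) = θ l

theorem Inv.subgroupOf {L : Subgroup G} {θ : G → ℂ} (h : Inv L θ) {T : Subgroup G} (hLT : L ≤ T) :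
    Inv (L.subgroupOf T) (fun t : T => θ t) where
  normal := h.normal.subgroupOf T
  irr := IsIrrCharacter.comp_equiv h.irr (Subgroup.subgroupOfEquivOfLe hLT)
  inv g l hl := h.inv g l hl

variable [Finite G]

omit [Finite G] in
theorem proj_eq_sum (L : Subgroup G) [Fintype L] (θ f : G → ℂ) (x : G) :
    proj L θ f x = θ 1 / (Nat.card L : ℂ) * ∑ l : L, conj (θ l) * f (l * x) := by
  rw [proj, finsum_eq_sum_of_fintype]

theorem proj_smul (L : Subgroup G) (θ : G → ℂ) (c : ℂ) (f : G → ℂ) :
    proj L θ (c • f) = c • proj L θ f := by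
  have := Fintype.ofFinite L
  funext x
  simp only [proj_eq_sum, Pi.smul_apply, smul_eq_mul, mul_left_comm _ c, ← Finset.mul_sum]

theorem proj_sum (L : Subgroup G) (θ : G → ℂ) {ι : Type*} (s : Finset ι) (f : ι → G → ℂ) :
    proj L θ (∑ i ∈ s, f i) = ∑ i ∈ s, proj L θ (f i) := by
  have := Fintype.ofFinite L
  funext x
  simp only [proj_eq_sum, Finset.sum_apply, Finset.mul_sum]
  exact Finset.sum_comm

theorem proj_zero (L : Subgroup G) (θ : G → ℂ) : proj L θ 0 = 0 := by
  have h := proj_smul L θ 0 0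
  simpa using h

theorem proj_sub (L : Subgroup G) (θ f f' : G → ℂ) :
    proj L θ (f - f') = proj L θ f - proj L θ f' := by
  have := Fintype.ofFinite L
  funext x
  simp only [proj_eq_sum, Pi.sub_apply, mul_sub, Finset.sum_sub_distrib]

theorem proj_cut {L L' : Subgroup G} [L'.Normal] (hle : L ≤ L') (θ f : G → ℂ) :
    proj L θ (cut p L' f) = cut p L' (proj L θ f) := by
  have := Fintype.ofFinite L
  funext x
  by_cases h : Reg p L' x
  · rw [cut_of_reg _ h, proj_eq_sum, proj_eq_sum]
    refine congrArg _ (Finset.sum_congr rfl fun l _ => ?_)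
    rw [cut_of_reg _ ((reg_mul_left (hle l.2) x).2 h)]
  · rw [cut_of_not _ h, proj_eq_sum, Finset.sum_eq_zero, mul_zero]
    intro l _
    rw [cut_of_not _ (mt (reg_mul_left (hle l.2) x).1 h), mul_zero]

theorem proj_comp {L T : Subgroup G} (hLT : L ≤ T) (θ f : G → ℂ) :
    proj (L.subgroupOf T) (fun t : T => θ t) (fun t : T => f t) = fun t : T => proj L θ f t := by
  have := Fintype.ofFinite L
  have := Fintype.ofFinite (L.subgroupOf T)
  funext t
  rw [proj_eq_sum, proj_eq_sum, Nat.card_congr (Subgroup.subgroupOfEquivOfLe hLT).toEquiv,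
    OneMemClass.coe_one]
  refine congrArg _ (Fintype.sum_equiv (Subgroup.subgroupOfEquivOfLe hLT).toEquiv _ _ fun l => ?_)
  simp [Subgroup.subgroupOfEquivOfLe]

variable {L : Subgroup G} {θ : G → ℂ}

/-- The projection of an irreducible character. -/
theorem proj_irr_eq [Fintype L] (h : Inv L θ) (χ : IrrCharacter G) :
    proj L θ (χ : G → ℂ) =
      (θ 1 * classInner (fun l : L => (χ : G → ℂ) l) (fun l : L => θ l) / (χ : G → ℂ) 1) •
        (χ : G → ℂ) := by
  classical
  haveI := h.normal
  have := Fintype.ofFinite G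
  let z : G → ℂ := fun g => if g ∈ L then θ 1 / (Nat.card L : ℂ) * conj (θ g) else 0
  have hz : IsClassFunction G z := by
    intro g x
    by_cases hg : g ∈ L
    · simp [z, hg, h.normal.conj_mem g hg x, h.inv x g hg]
    · have hg' : x * g * x⁻¹ ∉ L := fun hx => hg (by
        simpa [mul_assoc] using h.normal.conj_mem _ hx x⁻¹)
      simp [z, hg, hg']
  have hsum : ∀ F : G → ℂ,
      ∑ g, z g * F g = θ 1 / (Nat.card L : ℂ) * ∑ l : L, conj (θ l) * F l := by
    intro F
    rw [Finset.mul_sum, ← Finset.sum_subset (Finset.subset_univ (Finset.univ.filter (· ∈ L)))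
      (fun g _ hg => by simp only [Finset.mem_filter, Finset.mem_univ, true_and] at hg; simp [z, hg]),
      Finset.sum_subtype (Finset.univ.filter (· ∈ L)) (p := (· ∈ L)) (fun g => by simp)]
    exact Finset.sum_congr rfl fun l _ => by simp [z, mul_assoc]
  obtain ⟨n, ρ, hirr, hρ⟩ := χ.2
  funext x
  have hlhs : proj L θ (χ : G → ℂ) x = LinearMap.trace ℂ _ (Char.groupSumOp ρ z ∘ₗ ρ x) := by
    rw [proj_eq_sum, ← hsum (fun g => (χ : G → ℂ) (g * x)), ← hρ, Char.groupSumOp,
      ← Module.End.mul_eq_comp, Finset.sum_mul, map_sum]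
    refine Finset.sum_congr rfl fun g _ => ?_
    rw [smul_mul_assoc, map_smul, smul_eq_mul, ← map_mul]
    rfl
  rw [hlhs, Char.groupSumOp_eq_smul ρ hz, LinearMap.smul_comp, LinearMap.id_comp, map_smul,
    Pi.smul_apply, smul_eq_mul, smul_eq_mul,
    show (Module.finrank ℂ (Fin n → ℂ) : ℂ) = ρ.character 1 from (Representation.char_one ρ).symm]
  simp only [hρ]
  rw [show LinearMap.trace ℂ _ (ρ x) = (χ : G → ℂ) x from congrFun hρ x, hsum (χ : G → ℂ)]
  congr 2
  rw [classInner, div_mul_eq_mul_div, mul_comm (Nat.card L : ℂ)⁻¹, ← mul_assoc, ← div_eq_mul_inv]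
  congr 2
  exact Finset.sum_congr rfl fun l _ => mul_comm _ _

theorem proj_irr_of_ne [Fintype L] (h : Inv L θ) {χ : IrrCharacter G}
    (hne : classInner (fun l : L => (χ : G → ℂ) l) (fun l : L => θ l) ≠ 0) :
    proj L θ (χ : G → ℂ) = (χ : G → ℂ) := by
  haveI := h.normal
  have := Fintype.ofFinite G
  have hres := congrFun (CharApp.restrict_invariant L χ.2 h.irr hne fun x => funext fun l => by
    rw [CliffordChar.conjFun_apply]
    simpa using h.inv x⁻¹ l l.2) 1
  rw [Pi.smul_apply, smul_eq_mul, OneMemClass.coe_one] at hres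
  rw [proj_irr_eq h, mul_comm (θ 1), ← hres, div_self (IsIrrCharacter.apply_one_ne_zero χ.2),
    one_smul]

theorem proj_irr_of_eq [Fintype L] (h : Inv L θ) {χ : IrrCharacter G}
    (he : classInner (fun l : L => (χ : G → ℂ) l) (fun l : L => θ l) = 0) :
    proj L θ (χ : G → ℂ) = 0 := by
  rw [proj_irr_eq h, he, mul_zero, zero_div, zero_smul]

theorem over_iff [Fintype L] (h : Inv L θ) {χ : IrrCharacter G} :
    proj L θ (χ : G → ℂ) = (χ : G → ℂ) ↔
      classInner (fun l : L => (χ : G → ℂ) l) (fun l : L => θ l) ≠ 0 := by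
  refine ⟨fun hχ he => ?_, proj_irr_of_ne h⟩
  rw [proj_irr_of_eq h he] at hχ
  exact IsIrrCharacter.ne_zero χ.2 hχ.symm

theorem proj_irr (h : Inv L θ) (χ : IrrCharacter G) :
    proj L θ (χ : G → ℂ) = (χ : G → ℂ) ∨ proj L θ (χ : G → ℂ) = 0 := by
  have := Fintype.ofFinite L
  by_cases he : classInner (fun l : L => (χ : G → ℂ) l) (fun l : L => θ l) = 0
  exacts [Or.inr (proj_irr_of_eq h he), Or.inl (proj_irr_of_ne h he)]

theorem proj_eq_expansion [Fintype G] [Fintype (IrrCharacter G)] {f : G → ℂ}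
    (hf : IsClassFunction G f) : proj L θ f =
      ∑ χ : IrrCharacter G, classInner f (χ : G → ℂ) • proj L θ (χ : G → ℂ) := by
  conv_lhs => rw [classFunction_eq_sum hf]
  rw [proj_sum]
  exact Finset.sum_congr rfl fun χ _ => proj_smul _ _ _ _

theorem isClassFunction_proj (h : Inv L θ) {f : G → ℂ} (hf : IsClassFunction G f) :
    IsClassFunction G (proj L θ f) := by
  have := Fintype.ofFinite G
  have := Fintype.ofFinite (IrrCharacter G)
  rw [proj_eq_expansion hf]
  refine isClassFunction_sum _ fun χ _ => isClassFunction_smul ?_ _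
  rcases proj_irr h χ with h1 | h1 <;> rw [h1]
  exacts [IsIrrCharacter.isClassFunction χ.2, fun _ _ => rfl]

theorem classInner_proj [Fintype G] (h : Inv L θ) {f : G → ℂ} (hf : IsClassFunction G f)
    (χ : IrrCharacter G) : classInner (proj L θ f) (χ : G → ℂ) =
      classInner f (χ : G → ℂ) * classInner (proj L θ (χ : G → ℂ)) (χ : G → ℂ) := by
  have := Fintype.ofFinite (IrrCharacter G)
  rw [proj_eq_expansion hf, classInner_sum_left, Finset.sum_eq_single χ, classInner_smul_left]
  · intro φ _ hne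
    rw [classInner_smul_left]
    rcases proj_irr h φ with h1 | h1
    · rw [h1, classInner_irr_of_ne φ.2 χ.2 fun he => hne (Subtype.ext he), mul_zero]
    · rw [h1, classInner_zero_left, mul_zero]
  · simp

theorem classInner_proj_of_over [Fintype G] (h : Inv L θ) {f : G → ℂ} (hf : IsClassFunction G f)
    {χ : IrrCharacter G} (hχ : proj L θ (χ : G → ℂ) = (χ : G → ℂ)) :
    classInner (proj L θ f) (χ : G → ℂ) = classInner f (χ : G → ℂ) := by
  rw [classInner_proj h hf, hχ, classInner_irr_self χ.2, mul_one]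

theorem classInner_proj_of_not [Fintype G] (h : Inv L θ) {f : G → ℂ} (hf : IsClassFunction G f)
    {χ : IrrCharacter G} (hχ : proj L θ (χ : G → ℂ) ≠ (χ : G → ℂ)) :
    classInner (proj L θ f) (χ : G → ℂ) = 0 := by
  rw [classInner_proj h hf, (proj_irr h χ).resolve_left hχ, classInner_zero_left, mul_zero]

/-- The characters occurring in a fixed function lie over `θ`. -/
theorem classInner_eq_zero_of_fixed [Fintype G] (h : Inv L θ) {f : G → ℂ}
    (hf : IsClassFunction G f) (hfix : proj L θ f = f) {χ : IrrCharacter G}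
    (hχ : proj L θ (χ : G → ℂ) ≠ (χ : G → ℂ)) : classInner f (χ : G → ℂ) = 0 := by
  rw [← hfix, classInner_proj_of_not h hf hχ]

theorem proj_proj (h : Inv L θ) {f : G → ℂ} (hf : IsClassFunction G f) :
    proj L θ (proj L θ f) = proj L θ f := by
  have := Fintype.ofFinite G
  have hc := isClassFunction_proj h hf
  refine classFunction_ext (isClassFunction_proj h hc) hc fun χ => ?_
  by_cases hχ : proj L θ (χ : G → ℂ) = (χ : G → ℂ)
  · rw [classInner_proj_of_over h hc hχ]
  · rw [classInner_proj_of_not h hc hχ, classInner_proj_of_not h hf hχ]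

theorem isCharacter_proj (h : Inv L θ) {f : G → ℂ} (hf : IsCharacter G f) :
    IsCharacter G (proj L θ f) := by
  have := Fintype.ofFinite G
  have hc := IsCharacter.isClassFunction hf
  refine isCharacter_of_classFunction (isClassFunction_proj h hc) fun χ => ?_
  by_cases hχ : proj L θ (χ : G → ℂ) = (χ : G → ℂ)
  · rw [classInner_proj_of_over h hc hχ]
    exact IsCharacter.classInner_nat hf (IsIrrCharacter.isCharacter χ.2)
  · exact ⟨0, by rw [classInner_proj_of_not h hc hχ, Nat.cast_zero]⟩

omit [Finite G] in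
/-- A function on the regular elements which is a character over `θ` on every regular overgroup. -/
structure Positive (p : ℕ) (L : Subgroup G) (θ f : G → ℂ) : Prop where
  isClass : IsClassFunction G f
  supp : ∀ x, ¬ Reg p L x → f x = 0
  fix : proj L θ f = f
  char : ∀ H : Subgroup G, L ≤ H → (∀ x ∈ H, Reg p L x) → IsCharacter H (fun x : H => f x)

/-- Some irreducible characters over `θ` restrict to a free basis of the positive functions. -/
def Basis (p : ℕ) (L : Subgroup G) (θ : G → ℂ) : Prop :=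
  ∃ F : Finset (IrrCharacter G),
    (∀ ξ ∈ F, proj L θ (ξ : G → ℂ) = (ξ : G → ℂ)) ∧
    (∀ a : IrrCharacter G → ℂ, ∑ ξ ∈ F, a ξ • cut p L (ξ : G → ℂ) = 0 → ∀ ξ ∈ F, a ξ = 0) ∧
    ∀ f : G → ℂ, Positive p L θ f →
      ∃ n : IrrCharacter G → ℕ, f = ∑ ξ ∈ F, (n ξ : ℂ) • cut p L (ξ : G → ℂ)

/-- The triples of the induction. -/
structure Tri (p : ℕ) (L : Subgroup G) (θ : G → ℂ) : Prop extends Inv L θ where
  deg : ¬ p ∣ charDegree (fun l : L => θ l)
  det : ¬ p ∣ detOrder (fun l : L => θ l)

end Cfsg.Agent.ProjPositive
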