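/-
The complement of a `p`-factor and the restriction bijection, namespace `Cfsg.Agent.ProjPositive`.

* `IsCompl'` : `H` is a complement of `M` modulo `L`
* `exists_compl`, `exists_conj_mem` : complements exist and meet the classes of the regular elements
* `exists_restrict_eq`, `proj_indFun_restrict`, `restrict_proj_indFun` : `Irr(X|η) → Irr(H|θ)`
-/
import Cfsg.Agent.Lib.ProjPositive.Basic
import Cfsg.Agent.Lib.Solvable.SchurZassenhaus

set_option autoImplicit false
set_option linter.style.haveILetI false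

namespace Cfsg.Agent.ProjPositive

open Cfsg Cfsg.Agent.Char
open scoped ComplexConjugate

section group

variable {X : Type*} [Group X] {p : ℕ}

/-- `H` is a complement of `M` modulo `L`. -/
structure Splits (p : ℕ) (L M H : Subgroup X) : Prop where
  le_left : L ≤ M
  le_right : L ≤ H
  inf_eq : H ⊓ M = L
  sup_eq : H ⊔ M = ⊤
  reg : ∀ h ∈ H, Reg p L h
  exists_conj : ∀ x, Reg p L x → ∃ u : X, u * x * u⁻¹ ∈ H

variable [Finite X] [hp : Fact p.Prime]

theorem not_dvd_index_of_reg {M : Subgroup X} [M.Normal] (hreg : ∀ x : X, Reg p M x) :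
    ¬ p ∣ M.index := by
  intro hd
  rw [M.index_eq_card] at hd
  obtain ⟨q, hq⟩ := exists_prime_orderOf_dvd_card' (G := X ⧸ M) p hd
  obtain ⟨x, rfl⟩ := QuotientGroup.mk_surjective q
  obtain ⟨n, hn, hx⟩ := hreg x
  refine hn (hq ▸ orderOf_dvd_of_pow_eq_one ?_)
  rw [← QuotientGroup.mk_pow]
  exact (QuotientGroup.eq_one_iff _).2 hx

/-- A normal subgroup with `p`-power relative index and all elements regular has a complement. -/
theorem exists_compl {L M : Subgroup X} [L.Normal] [M.Normal] (hLM : L ≤ M) {k : ℕ}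
    (hidx : L.relIndex M = p ^ k) (hreg : ∀ x : X, Reg p M x) :
    ∃ H, Splits p L M H := by
  classical
  set f := QuotientGroup.mk' L with hf
  have hker : f.ker = L := QuotientGroup.ker_mk' L
  have hsurj : Function.Surjective f := QuotientGroup.mk'_surjective L
  set N := M.map f with hN
  haveI : N.Normal := Subgroup.Normal.map inferInstance f hsurj
  have hcard : Nat.card N = p ^ k := by
    rw [← hidx, hN, ← Subgroup.relIndex_ker M f, hker]
  have hNidx : N.index = M.index := Subgroup.index_map_eq M hsurj (hker.le.trans hLM)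
  have hMi := not_dvd_index_of_reg (p := p) (M := M) hreg
  have hcop : (Nat.card N).Coprime N.index := by
    rw [hcard, hNidx]
    exact Nat.Coprime.pow_left _ (hp.out.coprime_iff_not_dvd.2 hMi)
  obtain ⟨C, hC⟩ := Subgroup.exists_right_complement'_of_coprime hcop
  have hCc : Nat.card C = M.index := by rw [← hNidx, hC.symm.index_eq_card]
  refine ⟨C.comap f, hLM, fun x hx => ?_, ?_, ?_, fun h hh => ⟨Nat.card C, ?_, ?_⟩, fun x hx => ?_⟩
  · rw [Subgroup.mem_comap, MonoidHom.mem_ker.1 (hker.symm ▸ hx)]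
    exact one_mem C
  · refine le_antisymm (fun x hx => ?_) (le_inf (fun x hx => ?_) hLM)
    · refine (SetLike.ext_iff.1 hker _).1 (MonoidHom.mem_ker.2 ?_)
      rw [← Subgroup.mem_bot, ← hC.disjoint.eq_bot]
      exact ⟨Subgroup.mem_map_of_mem f hx.2, hx.1⟩
    · rw [Subgroup.mem_comap, MonoidHom.mem_ker.1 (hker.symm ▸ hx)]
      exact one_mem C
  · refine eq_top_iff.2 fun x _ => ?_
    obtain ⟨⟨⟨_, m, hm, rfl⟩, ⟨c, hc⟩⟩, he⟩ := (hC.existsUnique (f x)).exists
    have he' : f m * c = f x := he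
    have hmem : m⁻¹ * x ∈ C.comap f := by
      rw [Subgroup.mem_comap, map_mul, map_inv, ← he', inv_mul_cancel_left]
      exact hc
    have := Subgroup.mul_mem _ ((le_sup_right : M ≤ C.comap f ⊔ M) hm)
      ((le_sup_left : C.comap f ≤ C.comap f ⊔ M) hmem)
    rwa [mul_inv_cancel_left] at this
  · rwa [hCc]
  · refine (SetLike.ext_iff.1 hker _).1 (MonoidHom.mem_ker.2 ?_)
    rw [map_pow]
    exact congrArg Subtype.val (pow_card_eq_one' (x := (⟨f h, hh⟩ : C)))
  -- the regular elements are conjugate into the complement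
  set A := Subgroup.zpowers (f x) with hA
  obtain ⟨n, hn, hxn⟩ := hx
  have hAcard : (Nat.card A).Coprime (Nat.card N) := by
    rw [hcard, hA, Nat.card_zpowers]
    refine Nat.Coprime.pow_right _ (Nat.Coprime.symm (hp.out.coprime_iff_not_dvd.2 fun hd => hn
      (hd.trans (orderOf_dvd_of_pow_eq_one ?_))))
    rw [← map_pow, ← MonoidHom.mem_ker, hker]
    exact hxn
  set C' := C ⊓ (A ⊔ N) with hC'
  have hCN : (Nat.card C).Coprime (Nat.card N) := by
    rw [hCc, ← hNidx]; exact hcop.symm
  have hsup : A ⊔ N = C' ⊔ N := by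
    refine le_antisymm (fun y hy => ?_) (sup_le inf_le_right le_sup_right)
    obtain ⟨⟨⟨m, hm⟩, ⟨c, hc⟩⟩, he⟩ := (hC.existsUnique y).exists
    have he' : m * c = y := he
    have hcA : c ∈ A ⊔ N := by
      rw [show c = m⁻¹ * y by rw [← he', inv_mul_cancel_left]]
      exact mul_mem ((le_sup_right : N ≤ A ⊔ N) (inv_mem hm)) hy
    rw [← he']
    exact mul_mem ((le_sup_right : N ≤ C' ⊔ N) hm) ((le_sup_left : C' ≤ C' ⊔ N) ⟨hc, hcA⟩)
  have hsolv : Group.IsSolvable N := by
    haveI : Group.IsNilpotent N := (IsPGroup.of_card hcard).isNilpotent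
    infer_instance
  obtain ⟨q, -, hq⟩ := Solvable.exists_conj_of_sup_eq (Or.inl hsolv) hsup hAcard
    (hCN.coprime_dvd_left (Subgroup.card_dvd_of_le inf_le_left))
  obtain ⟨u, rfl⟩ := hsurj q
  refine ⟨u, ?_⟩
  have hmem : f u * f x * (f u)⁻¹ ∈ C' := by
    rw [← hq]
    exact Subgroup.smul_mem_pointwise_smul _ (MulAut.conj (f u)) _ (Subgroup.mem_zpowers _)
  rw [Subgroup.mem_comap, map_mul, map_mul, map_inv]
  exact hmem.1

omit [Finite X] hp in
theorem Splits.index_mul {L M H : Subgroup X} [M.Normal] (hs : Splits p L M H) :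
    M.index * Nat.card L = Nat.card H := by
  have h1 : M.index = L.relIndex H := by
    rw [← Subgroup.relIndex_top_right, ← hs.sup_eq, Subgroup.relIndex_sup_right,
      ← Subgroup.inf_relIndex_right, inf_comm, hs.inf_eq]
  rw [h1, mul_comm, ← Subgroup.relIndex_bot_left L, Subgroup.relIndex_mul_relIndex ⊥ L H bot_le
    hs.le_right, Subgroup.relIndex_bot_left]

end group

section bijection

variable {X : Type*} [Group X] [Fintype X] {p : ℕ} {L M H : Subgroup X} {θ η : X → ℂ}

/-- A sum over a subgroup of a function vanishing off a subgroup of it. -/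
theorem sum_eq_sum_of_le [Fintype L] [Fintype H] (hLH : L ≤ H) (F : X → ℂ)
    (hF : ∀ h ∈ H, h ∉ L → F h = 0) : ∑ h : H, F h = ∑ l : L, F l := by
  classical
  have hsub : Finset.univ.filter (· ∈ L) ⊆ Finset.univ.filter (· ∈ H) := fun x hx => by
    simp only [Finset.mem_filter, Finset.mem_univ, true_and] at hx ⊢
    exact hLH hx
  rw [← Finset.sum_subtype (Finset.univ.filter (· ∈ H)) (p := (· ∈ H)) (fun g => by simp),
    ← Finset.sum_subtype (Finset.univ.filter (· ∈ L)) (p := (· ∈ L)) (fun g => by simp),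
    Finset.sum_subset hsub]
  intro x hx hx'
  simp only [Finset.mem_filter, Finset.mem_univ, true_and] at hx hx'
  exact hF x hx hx'

theorem indFun_invariant_apply [Fintype M] (hη : Inv M η) {m : X} (hm : m ∈ M) :
    indFun M (fun m : M => η m) m = (M.index : ℂ) * η m := by
  have h1 : ∀ x : X, extendByZero M (fun m : M => η m) (x⁻¹ * m * x) = η m := fun x => by
    rw [extendByZero_mem M _ (by simpa using hη.normal.conj_mem m hm x⁻¹)]
    simpa using hη.inv x⁻¹ m hm
  rw [indFun, Finset.sum_congr rfl fun x _ => h1 x, Finset.sum_const, Finset.card_univ,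
    nsmul_eq_mul, ← Nat.card_eq_fintype_card, ← M.index_mul_card, Nat.cast_mul]
  field_simp [(Nat.cast_ne_zero.2 Nat.card_pos.ne' : (Nat.card M : ℂ) ≠ 0)]

variable (hs : Splits p L M H) (hη : Inv M η) (hθ : Inv L θ) (hres : ∀ l ∈ L, η l = θ l)
include hs hη hθ hres

omit hθ in
theorem classInner_indFun_restrict [Fintype M] [Fintype L] [Fintype H] (F : X → ℂ) :
    classInner (fun h : H => indFun M (fun m : M => η m) h) (fun h : H => F h) =
      classInner (fun l : L => θ l) (fun l : L => F l) := by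
  haveI := hη.normal
  unfold classInner
  rw [sum_eq_sum_of_le hs.le_right (fun x => indFun M (fun m : M => η m) x * conj (F x))
    fun h hh hl => by
      rw [CliffordChar.indFun_not_mem M _ fun hm => hl (hs.inf_eq ▸ ⟨hh, hm⟩), zero_mul]]
  rw [Finset.mul_sum, Finset.mul_sum]
  refine Finset.sum_congr rfl fun l _ => ?_
  rw [indFun_invariant_apply hη (hs.le_left l.2), hres _ l.2, ← hs.index_mul, Nat.cast_mul]
  field_simp [(Nat.cast_ne_zero.2 Subgroup.index_ne_zero_of_finite : (M.index : ℂ) ≠ 0),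
    (Nat.cast_ne_zero.2 Nat.card_pos.ne' : (Nat.card L : ℂ) ≠ 0)]

omit hη in
theorem classInner_indFun_restrict_self [Fintype M] [Fintype L] [Fintype H] (hη : Inv M η) :
    classInner (fun h : H => indFun M (fun m : M => η m) h)
      (fun h : H => indFun M (fun m : M => η m) h) = (M.index : ℂ) := by
  rw [classInner_indFun_restrict hs hη hres]
  rw [show (fun l : L => indFun M (fun m : M => η m) (l : X)) = (M.index : ℂ) • fun l : L => θ l
    from funext fun l => by
      rw [indFun_invariant_apply hη (hs.le_left l.2), hres _ l.2, Pi.smul_apply, smul_eq_mul],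
    classInner_smul_right, classInner_irr_self hθ.irr, mul_one, Complex.conj_natCast]

/-- The restriction map `Irr(X|η) → Irr(H|θ)` is a bijection. -/
theorem restrict_bijection [Fintype H] :
    (∀ ξ ξ' : IrrCharacter X, proj M η (ξ : X → ℂ) = (ξ : X → ℂ) →
      proj M η (ξ' : X → ℂ) = (ξ' : X → ℂ) → classInner (fun h : H => (ξ : X → ℂ) h)
        (fun h : H => (ξ' : X → ℂ) h) = classInner (ξ : X → ℂ) (ξ' : X → ℂ)) ∧
    ∀ α : IrrCharacter H, proj (L.subgroupOf H) (fun h : H => θ h) (α : H → ℂ) = (α : H → ℂ) →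
      ∃ ξ : IrrCharacter X, proj M η (ξ : X → ℂ) = (ξ : X → ℂ) ∧
        (fun h : H => (ξ : X → ℂ) h) = (α : H → ℂ) := by
  classical
  haveI := hη.normal
  have := Fintype.ofFinite M
  have := Fintype.ofFinite L
  have := Fintype.ofFinite (IrrCharacter X)
  set Ξ := indFun M (fun m : M => η m) with hΞdef
  have hΞ : IsCharacter X Ξ := IsCharacter.indFun M (IsIrrCharacter.isCharacter hη.irr)
  obtain ⟨e, he, hin⟩ := IsCharacter.decompose hΞ
  have hover : ∀ ξ : IrrCharacter X, proj M η (ξ : X → ℂ) = (ξ : X → ℂ) ↔ e ξ ≠ 0 := by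
    intro ξ
    rw [over_iff hη, ← Nat.cast_ne_zero (R := ℂ), ← hin ξ,
      frobenius_reciprocity M _ (IsIrrCharacter.isClassFunction ξ.2),
      ← classInner_conj_symm (fun m : M => η m), Ne, Ne, map_eq_zero]
  have hresc : ∀ ξ : IrrCharacter X, IsCharacter H (fun h : H => (ξ : X → ℂ) h) :=
    fun ξ => IsCharacter.restrict (IsIrrCharacter.isCharacter ξ.2) H
  choose N hN using fun ξ ξ' : IrrCharacter X => IsCharacter.classInner_nat (hresc ξ) (hresc ξ')
  have hN1 : ∀ ξ, 1 ≤ N ξ ξ := by
    intro ξ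
    refine Nat.one_le_iff_ne_zero.2 fun h0 => ?_
    have h1 := hN ξ ξ
    rw [h0, Nat.cast_zero, classInner_self_eq_zero] at h1
    exact IsIrrCharacter.apply_one_ne_zero ξ.2 (congrFun h1 1)
  have hrest : (fun h : H => Ξ h) = ∑ ξ, (e ξ : ℂ) • fun h : H => (ξ : X → ℂ) h := by
    funext h
    rw [he]
    simp [Finset.sum_apply]
  have hexp : classInner (fun h : H => Ξ h) (fun h : H => Ξ h) =
      ((∑ ξ, ∑ ξ', e ξ * e ξ' * N ξ ξ' : ℕ) : ℂ) := by
    push_cast
    rw [hrest, classInner_sum_left]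
    refine Finset.sum_congr rfl fun ξ _ => ?_
    rw [classInner_smul_left, classInner_sum_right, Finset.mul_sum]
    refine Finset.sum_congr rfl fun ξ' _ => ?_
    rw [classInner_smul_right, hN, Complex.conj_natCast]
    ring
  have hnorm : classInner Ξ Ξ = ((∑ ξ, e ξ * e ξ : ℕ) : ℂ) := by
    rw [classInner_eq_sum (IsCharacter.isClassFunction hΞ)]
    simp [hin]
  have hnorm' : classInner Ξ Ξ = (M.index : ℂ) := by
    rw [hΞdef, frobenius_reciprocity M _ (IsCharacter.isClassFunction hΞ),
      show (fun m : M => Ξ (m : X)) = (M.index : ℂ) • fun m : M => η m from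
        funext fun m => indFun_invariant_apply hη m.2,
      classInner_smul_right, classInner_irr_self hη.irr, mul_one, Complex.conj_natCast]
  have heq : ∑ ξ, e ξ * e ξ = ∑ ξ, ∑ ξ', e ξ * e ξ' * N ξ ξ' := by
    rw [hΞdef, classInner_indFun_restrict_self hs hθ hres hη, ← hnorm', hnorm] at hexp
    exact_mod_cast hexp
  have hdiag : ∀ ξ, e ξ * e ξ ≤ e ξ * e ξ * N ξ ξ :=
    fun ξ => Nat.le_mul_of_pos_right _ (hN1 ξ)
  have hrow : ∀ ξ, e ξ * e ξ = ∑ ξ', e ξ * e ξ' * N ξ ξ' := fun ξ =>
    (Finset.sum_eq_sum_iff_of_le fun i _ => (hdiag i).trans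
      (Finset.single_le_sum (f := fun j => e i * e j * N i j) (fun _ _ => Nat.zero_le _)
        (Finset.mem_univ i))).1 heq ξ (Finset.mem_univ ξ)
  have hkey : ∀ ξ ξ', e ξ ≠ 0 → e ξ' ≠ 0 → N ξ ξ' = if ξ = ξ' then 1 else 0 := by
    intro ξ ξ' h1 h2
    have h := hrow ξ
    rw [← Finset.add_sum_erase _ _ (Finset.mem_univ ξ)] at h
    have hd := hdiag ξ
    split_ifs with hξ
    · subst hξ
      have h3 : e ξ * e ξ * N ξ ξ = e ξ * e ξ * 1 := by rw [mul_one]; omega
      exact Nat.eq_of_mul_eq_mul_left (Nat.pos_of_ne_zero (mul_ne_zero h1 h1)) h3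
    · have h3 : ∑ j ∈ Finset.univ.erase ξ, e ξ * e j * N ξ j = 0 := by omega
      have h4 := Finset.sum_eq_zero_iff.1 h3 ξ'
        (Finset.mem_erase.2 ⟨Ne.symm hξ, Finset.mem_univ _⟩)
      simpa [h1, h2] using h4
  have hfirst : ∀ ξ ξ' : IrrCharacter X, proj M η (ξ : X → ℂ) = (ξ : X → ℂ) →
      proj M η (ξ' : X → ℂ) = (ξ' : X → ℂ) → classInner (fun h : H => (ξ : X → ℂ) h)
        (fun h : H => (ξ' : X → ℂ) h) = classInner (ξ : X → ℂ) (ξ' : X → ℂ) := by
    intro ξ ξ' h1 h2
    rw [hN, hkey ξ ξ' ((hover ξ).1 h1) ((hover ξ').1 h2), classInner_irr ξ.2 ξ'.2]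
    simp only [Subtype.ext_iff]
    split_ifs <;> simp
  refine ⟨hfirst, fun α hα => ?_⟩
  -- surjectivity
  have hne : classInner (fun h : H => Ξ h) (α : H → ℂ) ≠ 0 := by
    have := Fintype.ofFinite (L.subgroupOf H)
    have h1 := (over_iff (hθ.subgroupOf hs.le_right)).1 hα
    have hax : (α : H → ℂ) = fun h : H => extendByZero H (α : H → ℂ) (h : X) :=
      funext fun h => (extendByZero_coe H _ h).symm
    rw [hax, hΞdef, classInner_indFun_restrict hs hη hres, ← classInner_conj_symm, Ne,
      map_eq_zero]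
    refine fun h0 => h1 ?_
    rw [← h0]
    refine (classInner_comp_equiv (Subgroup.subgroupOfEquivOfLe hs.le_right)
      (fun l : L => extendByZero H (α : H → ℂ) l) (fun l : L => θ l)).symm.trans ?_ |>.symm
    refine congrArg₂ classInner (funext fun l => ?_) rfl
    exact extendByZero_coe H (α : H → ℂ) (l : H)
  rw [hrest, classInner_sum_left] at hne
  obtain ⟨ξ, -, hξ⟩ := Finset.exists_ne_zero_of_sum_ne_zero hne
  rw [classInner_smul_left] at hξ
  obtain ⟨hξ1, hξ2⟩ := mul_ne_zero_iff.1 hξ
  have hov := (hover ξ).2 (fun h0 => hξ1 (by rw [h0, Nat.cast_zero]))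
  have hirr : IsIrrCharacter H (fun h : H => (ξ : X → ℂ) h) :=
    (isIrrCharacter_iff_norm_one (hresc ξ)).2 (by rw [hfirst ξ ξ hov hov, classInner_irr_self ξ.2])
  exact ⟨ξ, hov, by_contra fun hne' => hξ2 (classInner_irr_of_ne hirr α.2 hne')⟩

/-- A function over `η` is recovered from its restriction to the complement. -/
theorem proj_indFun_restrict [Fintype H] {Ξ : X → ℂ} (hc : IsClassFunction X Ξ)
    (hfix : proj M η Ξ = Ξ) : proj M η (indFun H (fun h : H => Ξ h)) = Ξ := by
  have := Fintype.ofFinite (IrrCharacter X)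
  have hi : IsClassFunction X (indFun H (fun h : H => Ξ h)) := indFun_isClassFunction H _
  refine classFunction_ext (isClassFunction_proj hη hi) hc fun χ => ?_
  by_cases hχ : proj M η (χ : X → ℂ) = (χ : X → ℂ)
  · rw [classInner_proj_of_over hη hi hχ,
      frobenius_reciprocity H _ (IsIrrCharacter.isClassFunction χ.2)]
    conv_lhs => rw [show (fun h : H => Ξ h) = ∑ ξ : IrrCharacter X,
      classInner Ξ (ξ : X → ℂ) • fun h : H => (ξ : X → ℂ) h from funext fun h => by
        conv_lhs => rw [classFunction_eq_sum hc]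
        simp [Finset.sum_apply]]
    rw [classInner_sum_left, Finset.sum_eq_single χ, classInner_smul_left,
      (restrict_bijection hs hη hθ hres).1 χ χ hχ hχ, classInner_irr_self χ.2, mul_one]
    · intro ξ _ hne
      rw [classInner_smul_left]
      by_cases hξ : proj M η (ξ : X → ℂ) = (ξ : X → ℂ)
      · rw [(restrict_bijection hs hη hθ hres).1 ξ χ hξ hχ,
          classInner_irr_of_ne ξ.2 χ.2 fun he => hne (Subtype.ext he), mul_zero]
      · rw [classInner_eq_zero_of_fixed hη hc hfix hξ, zero_mul]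
    · simp
  · rw [classInner_proj_of_not hη hi hχ, classInner_eq_zero_of_fixed hη hc hfix hχ]

/-- A function over `θ` on the complement is the restriction of its lift. -/
theorem restrict_proj_indFun [Fintype H] {α : H → ℂ} (hc : IsClassFunction H α)
    (hfix : proj (L.subgroupOf H) (fun h : H => θ h) α = α) :
    (fun h : H => proj M η (indFun H α) h) = α := by
  classical
  have := Fintype.ofFinite (IrrCharacter H)
  choose f hf1 hf2 using (restrict_bijection hs hη hθ hres).2
  let e : IrrCharacter H → X → ℂ := fun φ =>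
    if h : proj (L.subgroupOf H) (fun h : H => θ h) (φ : H → ℂ) = (φ : H → ℂ) then f φ h else 0
  let Ξ : X → ℂ := ∑ φ : IrrCharacter H, classInner α (φ : H → ℂ) • e φ
  have hΞc : IsClassFunction X Ξ := isClassFunction_sum _ fun φ _ => isClassFunction_smul (by
    simp only [e]
    split_ifs
    exacts [IsIrrCharacter.isClassFunction (f φ _).2, fun _ _ => rfl]) _
  have hΞf : proj M η Ξ = Ξ := by
    rw [proj_sum]
    refine Finset.sum_congr rfl fun φ _ => ?_
    rw [proj_smul]
    simp only [e]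
    split_ifs
    exacts [by rw [hf1], by rw [proj_zero]]
  have hΞr : (fun h : H => Ξ h) = α := by
    funext h
    conv_rhs => rw [classFunction_eq_sum hc]
    simp only [Ξ, Finset.sum_apply, Pi.smul_apply]
    refine Finset.sum_congr rfl fun φ _ => ?_
    simp only [e]
    split_ifs with hφ
    · exact congrArg _ (congrFun (hf2 φ hφ) h)
    · rw [classInner_eq_zero_of_fixed (hθ.subgroupOf hs.le_right) hc hfix hφ]
      simp
  calc (fun h : H => proj M η (indFun H α) h)
      = fun h : H => proj M η (indFun H (fun h : H => Ξ h)) h := by rw [hΞr]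
    _ = α := by rw [proj_indFun_restrict hs hη hθ hres hΞc hΞf, hΞr]

end bijection

end Cfsg.Agent.ProjPositive
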