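/-
The step over a `p`-factor, namespace `Cfsg.Agent.ProjPositive`.

* `wt M L f` : `f` weighted by the number of fixed points on `M ⧸ L`
* `lift` : the extension of a function on the elements regular mod `L` to those regular mod `M`
* `lift_restrict` : on a regular overgroup `X` it is `proj (Ind_H^X f)`
* `exists_extension` : the invariant extension with the same determinantal order
* `basis_of_pFactor`
-/
import Cfsg.Agent.Lib.ProjPositive.Key
import Cfsg.Agent.Lib.CharApp.RelDegree
import Cfsg.Agent.S0867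

set_option autoImplicit false
set_option linter.style.haveILetI false

namespace Cfsg.Agent.ProjPositive

open Cfsg Cfsg.Agent.Char
open scoped ComplexConjugate

variable {G : Type*} [Group G] {p : ℕ}

/-- `f` weighted by the fixed points on `M ⧸ L`. -/
noncomputable def wt (M L : Subgroup G) (f : G → ℂ) : G → ℂ :=
  fun x => (Nat.card {m : M // (m : G)⁻¹ * x * m * x⁻¹ ∈ L} : ℂ) / (Nat.card L : ℂ) * f x

/-- The extension to the elements regular modulo `M`. -/
noncomputable def lift (p : ℕ) (M L : Subgroup G) (η f : G → ℂ) : G → ℂ :=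
  cut p M (proj M η (wt M L f))

theorem isClassFunction_wt {M L : Subgroup G} [M.Normal] [hL : L.Normal] {f : G → ℂ}
    (hf : IsClassFunction G f) : IsClassFunction G (wt M L f) := by
  intro x g
  simp only [wt, hf x g]
  congr 3
  refine Nat.card_congr (Equiv.subtypeEquiv (MulAut.conjNormal g).symm.toEquiv fun m => ?_)
  have hc : ((MulAut.conjNormal g).symm m : G) = g⁻¹ * m * g := MulAut.conjNormal_symm_apply g m
  simp only [MulEquiv.toEquiv_eq_coe, MulEquiv.coe_toEquiv, hc]
  constructor <;> intro h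
  · have := hL.conj_mem _ h g⁻¹
    simpa [mul_assoc] using this
  · have := hL.conj_mem _ h g
    simpa [mul_assoc] using this

theorem wt_comp {M L X : Subgroup G} (hMX : M ≤ X) (hLX : L ≤ X) (f : G → ℂ) :
    (fun x : X => wt M L f x) = wt (M.subgroupOf X) (L.subgroupOf X) (fun x : X => f x) := by
  funext x
  simp only [wt, Nat.card_congr (Subgroup.subgroupOfEquivOfLe hLX).toEquiv]
  congr 3
  exact (Nat.card_congr (Equiv.subtypeEquiv (Subgroup.subgroupOfEquivOfLe hMX).toEquiv
    fun m => by simp [Subgroup.mem_subgroupOf, Subgroup.subgroupOfEquivOfLe])).symm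

theorem lift_comp [Finite G] {M L X : Subgroup G} (hMX : M ≤ X) (hLX : L ≤ X) (η f : G → ℂ) :
    (fun x : X => lift p M L η f x) =
      lift p (M.subgroupOf X) (L.subgroupOf X) (fun x : X => η x) (fun x : X => f x) := by
  rw [lift, lift, cut_comp, ← proj_comp hMX, ← wt_comp hMX hLX]

section ind

variable {X : Type*} [Group X] [Fintype X] {L M H : Subgroup X}

theorem sum_of_right_invariant [M.Normal] [Fintype M] (hs : Splits p L M H) (φ : X → ℂ)
    (hφ : ∀ x, ∀ a ∈ H, φ (x * a) = φ x) :
    (Nat.card L : ℂ) * ∑ x : X, φ x = (Nat.card H : ℂ) * ∑ m : M, φ m := by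
  classical
  have h1 : ∀ x : X, (Nat.card L : ℂ) * φ x =
      ∑ m : M, if x⁻¹ * (m : X) ∈ H then φ x else 0 := by
    intro x
    obtain ⟨m₀, hm₀, a, ha, rfl⟩ := Subgroup.mem_sup_of_normal_left.1
      (show x ∈ M ⊔ H by rw [sup_comm, hs.sup_eq]; exact Subgroup.mem_top x)
    rw [← Finset.sum_filter, Finset.sum_const, nsmul_eq_mul]
    congr 2
    rw [Nat.card_eq_fintype_card, Fintype.card, eq_comm]
    refine Finset.card_bij (fun m hm => (⟨m₀⁻¹ * m, ?_⟩ : L)) (fun _ _ => Finset.mem_univ _)
      (fun m _ m' _ h => Subtype.ext (mul_left_cancel (congrArg Subtype.val h)))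
      fun l _ => ⟨⟨m₀ * l, mul_mem hm₀ (hs.le_left l.2)⟩, ?_, ?_⟩
    · rw [← hs.inf_eq]
      refine Subgroup.mem_inf.2 ⟨?_, mul_mem (inv_mem hm₀) m.2⟩
      have h := mul_mem ha (Finset.mem_filter.1 hm).2
      simpa [mul_assoc] using h
    · refine Finset.mem_filter.2 ⟨Finset.mem_univ _, ?_⟩
      simpa [mul_assoc] using mul_mem (inv_mem ha) (hs.le_right l.2)
    · exact Subtype.ext (by simp)
  have h2 : ∀ m : M, ∑ x : X, (if x⁻¹ * (m : X) ∈ H then φ x else 0) = (Nat.card H : ℂ) * φ m := by
    intro m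
    rw [← Finset.sum_filter, Finset.sum_congr rfl (g := fun _ => φ m) fun x hx => by
      have h := hφ x _ (Finset.mem_filter.1 hx).2
      rw [mul_inv_cancel_left] at h
      exact h.symm]
    rw [Finset.sum_const, nsmul_eq_mul]
    congr 2
    rw [Nat.card_eq_fintype_card, Fintype.card, eq_comm]
    refine Finset.card_bij (fun a _ => (m : X) * a) (fun a _ => ?_)
      (fun a _ b _ h => Subtype.ext (mul_left_cancel h)) fun x hx => ?_
    · exact Finset.mem_filter.2 ⟨Finset.mem_univ _, by simp⟩
    · refine ⟨⟨(m : X)⁻¹ * x, ?_⟩, Finset.mem_univ _, by simp⟩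
      simpa using inv_mem (Finset.mem_filter.1 hx).2
  rw [Finset.mul_sum, Finset.mul_sum, Finset.sum_congr rfl fun x _ => h1 x, Finset.sum_comm]
  exact Finset.sum_congr rfl fun m _ => h2 m

/-- Induction from a complement weights by fixed points. -/
theorem indFun_eq_wt [L.Normal] [M.Normal] (hs : Splits p L M H) {f : X → ℂ}
    (hf : IsClassFunction X f) (hsupp : ∀ x, ¬ Reg p L x → f x = 0) :
    indFun H (fun h : H => f h) = wt M L f := by
  classical
  have := Fintype.ofFinite M
  have hi : IsClassFunction X (indFun H (fun h : H => f h)) := indFun_isClassFunction H _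
  funext x
  by_cases hx : Reg p L x
  swap
  · rw [indFun, Finset.sum_eq_zero, mul_zero, wt, hsupp x hx, mul_zero]
    intro y _
    refine extendByZero_not_mem H _ fun hy => hx ?_
    have := hs.reg _ hy
    rw [show y⁻¹ * x * y = y⁻¹ * x * y⁻¹⁻¹ by rw [inv_inv], reg_conj] at this
    exact this
  obtain ⟨u, hu⟩ := hs.exists_conj x hx
  rw [← hi x u, ← isClassFunction_wt hf x u]
  set h := u * x * u⁻¹ with hdef
  let φ : X → ℂ := fun y => if y⁻¹ * h * y ∈ H then f h else 0
  have hφ : ∀ y, extendByZero H (fun h : H => f h) (y⁻¹ * h * y) = φ y := by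
    intro y
    by_cases hy : y⁻¹ * h * y ∈ H
    · rw [extendByZero_mem H _ hy]
      simp only [φ, if_pos hy]
      simpa using hf h y⁻¹
    · rw [extendByZero_not_mem H _ hy]
      simp only [φ, if_neg hy]
  have hinv : ∀ y, ∀ a ∈ H, φ (y * a) = φ y := by
    intro y a ha
    have hiff : (y * a)⁻¹ * h * (y * a) ∈ H ↔ y⁻¹ * h * y ∈ H := by
      rw [show (y * a)⁻¹ * h * (y * a) = a⁻¹ * (y⁻¹ * h * y) * a by group,
        Subgroup.mul_mem_cancel_right _ ha, Subgroup.mul_mem_cancel_left _ (inv_mem ha)]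
    simp only [φ, hiff]
  have hiff : ∀ m : M, (m : X)⁻¹ * h * m ∈ H ↔ (m : X)⁻¹ * h * m * h⁻¹ ∈ L := by
    intro m
    refine ⟨fun hm => hs.inf_eq ▸ Subgroup.mem_inf.2 ⟨mul_mem hm (inv_mem hu), ?_⟩, fun hm => ?_⟩
    · have := mul_mem (inv_mem m.2) (Subgroup.Normal.conj_mem inferInstance (m : X) m.2 h)
      simpa [mul_assoc] using this
    · simpa using mul_mem (hs.le_right hm) hu
  have hsum : ∑ m : M, φ m =
      (Nat.card {m : M // (m : X)⁻¹ * h * m * h⁻¹ ∈ L} : ℂ) * f h := by
    simp only [φ, hiff]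
    rw [← Finset.sum_filter, Finset.sum_const, nsmul_eq_mul, Nat.card_eq_fintype_card,
      Fintype.card_subtype]
  have hmain := sum_of_right_invariant hs φ hinv
  have hH : (Nat.card H : ℂ) ≠ 0 := Nat.cast_ne_zero.2 Nat.card_pos.ne'
  have hL : (Nat.card L : ℂ) ≠ 0 := Nat.cast_ne_zero.2 Nat.card_pos.ne'
  rw [indFun, Finset.sum_congr rfl fun y _ => hφ y, wt]
  rw [hsum] at hmain
  field_simp
  linear_combination hmain

end ind

variable [Finite G] {L M : Subgroup G} {θ η : G → ℂ}

omit [Finite G] in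
theorem reg_of_mem_sup [Fact p.Prime] [M.Normal] {x : G} (hx : Reg p M x) {y : G}
    (hy : y ∈ M ⊔ Subgroup.zpowers x) : Reg p M y := by
  obtain ⟨m, hm, c, hc, rfl⟩ := Subgroup.mem_sup_of_normal_left.1 hy
  obtain ⟨j, rfl⟩ := Subgroup.mem_zpowers_iff.1 hc
  obtain ⟨n, hn, hxn⟩ := hx
  rw [reg_mul_left hm]
  refine ⟨n, hn, ?_⟩
  rw [← zpow_natCast, ← zpow_mul, mul_comm, zpow_mul, zpow_natCast]
  exact zpow_mem hxn j

/-- On a regular overgroup the extension is the projected induced function. -/
theorem lift_restrict [Fact p.Prime] [L.Normal] [M.Normal] (hLM : L ≤ M) {k : ℕ}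
    (hidx : L.relIndex M = p ^ k) (hη : Inv M η) (hθ : Inv L θ) (hres : ∀ l ∈ L, η l = θ l)
    {X : Subgroup G} [Fintype X] (hMX : M ≤ X) (hreg : ∀ x ∈ X, Reg p M x) :
    ∃ H : Subgroup X, Splits p (L.subgroupOf X) (M.subgroupOf X) H ∧
      Inv (M.subgroupOf X) (fun x : X => η x) ∧ Inv (L.subgroupOf X) (fun x : X => θ x) ∧
      (∀ l ∈ L.subgroupOf X, η (l : X) = θ (l : X)) ∧
      ∀ f : G → ℂ, IsClassFunction G f → (∀ x, ¬ Reg p L x → f x = 0) →
        (fun x : X => lift p M L η f x) =
          proj (M.subgroupOf X) (fun x : X => η x) (indFun H (fun h : H => f h)) := by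
  haveI : (L.subgroupOf X).Normal := Subgroup.Normal.subgroupOf inferInstance X
  haveI : (M.subgroupOf X).Normal := Subgroup.Normal.subgroupOf inferInstance X
  have hLX := hLM.trans hMX
  obtain ⟨H, hs⟩ := exists_compl (p := p) (L := L.subgroupOf X) (M := M.subgroupOf X)
    (fun x hx => hLM hx) (k := k) (by rw [Subgroup.relIndex_subgroupOf hMX, hidx])
    (fun x => (reg_subgroupOf x).2 (hreg x x.2))
  refine ⟨H, hs, hη.subgroupOf hMX, hθ.subgroupOf hLX, fun l hl => hres _ hl,
    fun f hf hsupp => ?_⟩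
  rw [lift_comp hMX hLX, indFun_eq_wt hs (fun g h => hf g h)
    (fun x hx => hsupp _ fun h => hx ((reg_subgroupOf x).2 h)), lift]
  funext x
  rw [cut_of_reg _ ((reg_subgroupOf x).2 (hreg x x.2))]

section det

theorem detChar_comp {A B : Type*} [Group A] [Finite A] [Group B] [Finite B] {χ : B → ℂ}
    (hχ : IsCharacter B χ) (f : A →* B) :
    detChar (fun a => χ (f a)) = fun a => detChar χ (f a) := by
  obtain ⟨n, ρ, rfl⟩ := hχ
  let σ : Representation ℂ A (Fin n → ℂ) := ρ.comp f
  funext a
  rw [show (fun a => ρ.character (f a)) = σ.character from funext fun a => rfl,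
    CharExtend.detChar_character, CharExtend.detChar_character]
  rfl

theorem detOrder_dvd_iff {A : Type*} [Group A] (χ : A → ℂ) (n : ℕ) :
    detOrder χ ∣ n ↔ ∀ a, detChar χ a ^ n = 1 := by
  rw [detOrder, orderOf_dvd_iff_pow_eq_one, funext_iff]
  rfl

theorem detOrder_comp_equiv {A B : Type*} [Group A] [Finite A] [Group B] [Finite B] {χ : B → ℂ}
    (hχ : IsCharacter B χ) (e : A ≃* B) : detOrder (fun a => χ (e a)) = detOrder χ := by
  have h := detChar_comp hχ e.toMonoidHom
  simp only [MulEquiv.coe_toMonoidHom] at h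
  refine Nat.dvd_antisymm ((detOrder_dvd_iff _ _).2 fun a => ?_)
    ((detOrder_dvd_iff _ _).2 fun b => ?_)
  · rw [h]
    exact (detOrder_dvd_iff χ _).1 dvd_rfl _
  · have hb := (detOrder_dvd_iff (fun a => χ (e a)) _).1 dvd_rfl (e.symm b)
    simpa [h] using hb

end det

/-- The invariant extension of `θ` to a normal subgroup of `p`-power index. -/
theorem exists_extension [Fact p.Prime] [M.Normal] (hT : Tri p L θ) (hLM : L ≤ M) {k : ℕ}
    (hidx : L.relIndex M = p ^ k) : ∃ η : G → ℂ, Tri p M η ∧ ∀ l ∈ L, η l = θ l := by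
  classical
  have hp : p.Prime := Fact.out
  have hN : (L.subgroupOf M).Normal := hT.normal.subgroupOf M
  have hθ' := hT.toInv.subgroupOf hLM
  set θ' : L.subgroupOf M → ℂ := fun x => θ (x : M) with hθ'def
  obtain ⟨d, -, hd⟩ := IsIrrCharacter.exists_degree hθ'.irr
  have hdeq : charDegree (fun l : L => θ l) = d := by
    have h1 : θ 1 = (d : ℂ) := hd
    simp [charDegree, h1]
  have hdet : detOrder θ' = detOrder (fun l : L => θ l) :=
    detOrder_comp_equiv (χ := fun l : L => θ l) (IsIrrCharacter.isCharacter hT.irr)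
      (Subgroup.subgroupOfEquivOfLe hLM)
  have hcop : Nat.Coprime (L.subgroupOf M).index (detOrder θ' * d) := by
    rw [show (L.subgroupOf M).index = p ^ k from hidx, hdet]
    refine Nat.Coprime.pow_left _ (hp.coprime_iff_not_dvd.2 fun h => ?_)
    rcases (Nat.Prime.dvd_mul hp).1 h with h | h
    exacts [hT.det h, hT.deg (hdeq ▸ h)]
  obtain ⟨χ, ⟨hχ, hχr, hχd⟩, huniq⟩ :=
    S0867.result (L.subgroupOf M) θ' hθ'.irr (fun g n => hθ'.inv g n n.2) d hd hcop
  refine ⟨extendByZero M χ, ⟨⟨inferInstance, ?_, ?_⟩, ?_, ?_⟩, ?_⟩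
  · rwa [show (fun m : M => extendByZero M χ m) = χ from funext (extendByZero_coe M χ)]
  · intro g m hm
    rw [extendByZero_mem M χ hm, extendByZero_mem M χ (Subgroup.Normal.conj_mem inferInstance m hm g)]
    have h := huniq (fun x : M => χ (MulAut.conjNormal g x))
      (IsIrrCharacter.comp_equiv hχ (MulAut.conjNormal g)) (fun n => ?_) ?_
    · exact congrFun h ⟨m, hm⟩
    · show χ (MulAut.conjNormal g (n : M)) = θ' n
      have hn : (MulAut.conjNormal g (n : M) : M) ∈ L.subgroupOf M := by
        rw [Subgroup.mem_subgroupOf, MulAut.conjNormal_apply]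
        exact hT.normal.conj_mem _ n.2 g
      refine (hχr ⟨_, hn⟩).trans ?_
      show θ ((MulAut.conjNormal g (n : M) : M) : G) = θ (n : M)
      rw [MulAut.conjNormal_apply]
      exact hT.inv g _ n.2
    · rw [detOrder_comp_equiv (IsIrrCharacter.isCharacter hχ), hχd]
      exact hcop.coprime_dvd_right (dvd_mul_right _ _)
  · rw [show (fun m : M => extendByZero M χ m) = χ from funext (extendByZero_coe M χ)]
    have h1 : χ 1 = (d : ℂ) := (hχr 1).trans hd
    rw [show charDegree χ = d by simp [charDegree, h1], ← hdeq]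
    exact hT.deg
  · rw [show (fun m : M => extendByZero M χ m) = χ from funext (extendByZero_coe M χ), hχd, hdet]
    exact hT.det
  · intro l hl
    rw [extendByZero_mem M χ (hLM hl)]
    exact hχr ⟨⟨l, hLM hl⟩, hl⟩

theorem proj_of_proj_extension (hθ : Inv L θ) (hη : Inv M η) (hLM : L ≤ M)
    (hres : ∀ l ∈ L, η l = θ l) {χ : IrrCharacter G}
    (hχ : proj M η (χ : G → ℂ) = (χ : G → ℂ)) : proj L θ (χ : G → ℂ) = (χ : G → ℂ) := by
  haveI := hη.normal
  have := Fintype.ofFinite G
  have := Fintype.ofFinite L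
  have := Fintype.ofFinite M
  have hne := (over_iff hη).1 hχ
  have hr := CharApp.restrict_invariant M χ.2 hη.irr hne fun x => funext fun m => by
    rw [CliffordChar.conjFun_apply]
    simpa using hη.inv x⁻¹ m m.2
  refine (over_iff hθ).2 ?_
  rw [show (fun l : L => (χ : G → ℂ) l) =
      classInner (fun m : M => (χ : G → ℂ) m) (fun m : M => η m) • fun l : L => θ l from
        funext fun l => by
          rw [Pi.smul_apply, smul_eq_mul, ← hres _ l.2]
          exact congrFun hr ⟨l, hLM l.2⟩,
    classInner_smul_left, classInner_irr_self hθ.irr, mul_one]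
  exact hne

/-- The step over a `p`-factor. -/
theorem basis_of_pFactor [Fact p.Prime] [L.Normal] [M.Normal] (hLM : L ≤ M) {k : ℕ}
    (hidx : L.relIndex M = p ^ k) (hη : Inv M η) (hθ : Inv L θ) (hres : ∀ l ∈ L, η l = θ l)
    (hB : Basis p M η) : Basis p L θ := by
  classical
  have := Fintype.ofFinite G
  obtain ⟨F, hF1, hF2, hF3⟩ := hB
  refine ⟨F, fun ξ hξ => proj_of_proj_extension hθ hη hLM hres (hF1 ξ hξ), fun a ha => ?_,
    fun f hf => ?_⟩
  · -- the lift recovers the values at the elements regular modulo `M`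
    refine hF2 a (funext fun x => ?_)
    rw [Finset.sum_apply, Pi.zero_apply]
    by_cases hx : Reg p M x
    swap
    · exact Finset.sum_eq_zero fun ξ _ => by simp [cut_of_not _ hx]
    set X := M ⊔ Subgroup.zpowers x
    have := Fintype.ofFinite X
    obtain ⟨H, hs, hη', hθ', hres', -⟩ := lift_restrict hLM hidx hη hθ hres (X := X) le_sup_left
      (fun y hy => reg_of_mem_sup hx hy)
    set Ξ : X → ℂ := fun y => (∑ ξ ∈ F, a ξ • (ξ : G → ℂ)) (y : G) with hΞ
    have hΞc : IsClassFunction X Ξ := fun g h =>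
      (isClassFunction_sum _ fun ξ _ => isClassFunction_smul
        (IsIrrCharacter.isClassFunction ξ.2) _ : IsClassFunction G (∑ ξ ∈ F, a ξ • (ξ : G → ℂ))) g h
    have hΞf : proj (M.subgroupOf X) (fun y : X => η y) Ξ = Ξ := by
      rw [hΞ, proj_comp le_sup_left]
      funext y
      rw [proj_sum]
      simp only [Finset.sum_apply]
      refine Finset.sum_congr rfl fun ξ hξ => ?_
      rw [proj_smul, hF1 ξ hξ]
    have hzero : (fun h : H => Ξ h) = 0 := by
      funext h
      have hr : Reg p L ((h : X) : G) := (reg_subgroupOf _).1 (hs.reg _ h.2)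
      have := congrFun ha ((h : X) : G)
      simp only [Finset.sum_apply, Pi.smul_apply, Pi.zero_apply, cut_of_reg _ hr] at this
      simpa [hΞ, Finset.sum_apply] using this
    have h0 := proj_indFun_restrict hs hη' hθ' hres' hΞc hΞf
    rw [hzero, indFun_zero, proj_zero] at h0
    have := congrFun h0 ⟨x, (le_sup_right : _ ≤ X) (Subgroup.mem_zpowers x)⟩
    simp only [hΞ, Finset.sum_apply, Pi.zero_apply] at this
    simpa [cut_of_reg _ hx] using this.symm
  · have hcl : IsClassFunction G (proj M η (wt M L f)) :=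
      isClassFunction_proj hη (isClassFunction_wt hf.isClass)
    have hpos : Positive p M η (lift p M L η f) := by
      refine ⟨isClassFunction_cut hcl, fun x hx => cut_of_not _ hx, ?_, fun X hMX hreg => ?_⟩
      · rw [lift, proj_cut le_rfl, proj_proj hη (isClassFunction_wt hf.isClass)]
      · have := Fintype.ofFinite X
        obtain ⟨H, hs, hη', hθ', -, heq⟩ := lift_restrict hLM hidx hη hθ hres hMX hreg
        rw [heq f hf.isClass hf.supp]
        refine isCharacter_proj hη' (IsCharacter.indFun H ?_)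
        have hH := hf.char (H.map X.subtype)
          (fun l hl => ⟨⟨l, hMX (hLM hl)⟩, hs.le_right hl, rfl⟩)
          (by rintro _ ⟨y, hy, rfl⟩; exact (reg_subgroupOf _).1 (hs.reg y hy))
        exact IsCharacter.comp_equiv hH (H.equivMapOfInjective X.subtype X.subtype_injective)
    obtain ⟨n, hn⟩ := hF3 _ hpos
    refine ⟨n, funext fun x => ?_⟩
    rw [Finset.sum_apply]
    by_cases hx : Reg p L x
    swap
    · rw [hf.supp x hx, Finset.sum_eq_zero fun ξ _ => by simp [cut_of_not _ hx]]
    have hxM := hx.mono hLM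
    have h1 : lift p M L η f x = f x := by
      set X := M ⊔ Subgroup.zpowers x
      have := Fintype.ofFinite X
      obtain ⟨H, hs, hη', hθ', hres', heq⟩ := lift_restrict hLM hidx hη hθ hres (X := X) le_sup_left
        (fun y hy => reg_of_mem_sup hxM hy)
      obtain ⟨u, hu⟩ := hs.exists_conj ⟨x, (le_sup_right : _ ≤ X) (Subgroup.mem_zpowers x)⟩
        ((reg_subgroupOf _).2 hx)
      have hfix : proj ((L.subgroupOf X).subgroupOf H) (fun h : H => θ ((h : X) : G))
          (fun h : H => f ((h : X) : G)) = fun h : H => f ((h : X) : G) := by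
        rw [proj_comp hs.le_right (fun y : X => θ y) (fun y : X => f y),
          proj_comp (hLM.trans le_sup_left) θ f, hf.fix]
      have h2 := restrict_proj_indFun hs hη' hθ' hres'
        (α := fun h : H => f ((h : X) : G)) (fun g h => hf.isClass _ _) hfix
      rw [← heq f hf.isClass hf.supp] at h2
      have h3 := congrFun h2 ⟨_, hu⟩
      simp only [Subgroup.coe_mul, Subgroup.coe_inv] at h3
      have hliftc : IsClassFunction G (lift p M L η f) := isClassFunction_cut hcl
      rwa [hliftc, hf.isClass] at h3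
    rw [← h1, hn, Finset.sum_apply]
    refine Finset.sum_congr rfl fun ξ _ => ?_
    simp [cut_of_reg _ hx, cut_of_reg _ hxM]

end Cfsg.Agent.ProjPositive
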