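/-
The step over a factor of order prime to `p`, namespace `Cfsg.Agent.ProjPositive`.

* `Under M η χ`, `inertGrp`, `etaT`, `xi` : the Clifford correspondent as a projection
* `exists_xi`, `exists_ind` : it is the Clifford correspondence
* `tri_inertia` : the triple of the inertia group
* `Sel`, `existsUnique_sel` : one constituent on `M` for each character
* `basis_of_pPrimeFactor`
-/
import Cfsg.Agent.Lib.ProjPositive.PStep
import Cfsg.Agent.S0887

set_option autoImplicit false
set_option linter.style.haveILetI false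

namespace Cfsg.Agent.ProjPositive

open Cfsg Cfsg.Agent.Char
open scoped ComplexConjugate

variable {G : Type*} [Group G] [Finite G] {p : ℕ} (M : Subgroup G) [hM : M.Normal]

/-- `η` is a constituent of `χ` on `M`. -/
def Under (η : IrrCharacter M) (χ : IrrCharacter G) : Prop :=
  ∃ _ : Fintype M, classInner (fun m : M => (χ : G → ℂ) m) (η : M → ℂ) ≠ 0

omit hM [Finite G] in
theorem under_iff [Fintype M] (η : IrrCharacter M) (χ : IrrCharacter G) :
    Under M η χ ↔ classInner (fun m : M => (χ : G → ℂ) m) (η : M → ℂ) ≠ 0 := by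
  refine ⟨?_, fun h => ⟨_, h⟩⟩
  rintro ⟨_, h⟩
  convert h

/-- The inertia group. -/
abbrev inertGrp (η : IrrCharacter M) : Subgroup G := CharApp.inertia M (η : M → ℂ)

/-- `η` as a function on its inertia group. -/
noncomputable def etaT (η : IrrCharacter M) : inertGrp M η → ℂ :=
  fun t => extendByZero M (η : M → ℂ) t

omit [Finite G] in
theorem le_inertGrp (η : IrrCharacter M) : M ≤ inertGrp M η :=
  CharApp.le_inertia M (IsIrrCharacter.isClassFunction η.2)

omit [Finite G] in
theorem inv_etaT (η : IrrCharacter M) : Inv (M.subgroupOf (inertGrp M η)) (etaT M η) where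
  normal := hM.subgroupOf _
  irr := by
    rw [show (fun x : M.subgroupOf (inertGrp M η) => etaT M η x) = fun x =>
      (η : M → ℂ) (Subgroup.subgroupOfEquivOfLe (le_inertGrp M η) x) from funext fun x =>
        extendByZero_mem M (η : M → ℂ) x.2]
    exact IsIrrCharacter.comp_equiv η.2 _
  inv t x hx := by
    replace hx : (x : G) ∈ M := hx
    show extendByZero M (η : M → ℂ) (t * x * t⁻¹ : G) = extendByZero M (η : M → ℂ) x
    rw [Subgroup.coe_inv]
    rw [extendByZero_mem M _ (hM.conj_mem (x : G) hx t), extendByZero_mem M _ hx]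
    exact (CharApp.mem_inertia_iff M).1 t.2 ⟨x, hx⟩

/-- The part over `η` of the restriction to the inertia group. -/
noncomputable def xi (η : IrrCharacter M) (f : G → ℂ) : inertGrp M η → ℂ :=
  proj (M.subgroupOf (inertGrp M η)) (etaT M η) (fun t : inertGrp M η => f t)

theorem xi_smul (η : IrrCharacter M) (c : ℂ) (f : G → ℂ) :
    xi M η (c • f) = c • xi M η f := by
  rw [xi, show (fun t : inertGrp M η => (c • f) t) = c • fun t : inertGrp M η => f t from rfl,
    proj_smul]
  rfl

theorem xi_sum (η : IrrCharacter M) {ι : Type*} (s : Finset ι) (f : ι → G → ℂ) :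
    xi M η (∑ i ∈ s, f i) = ∑ i ∈ s, xi M η (f i) := by
  simp only [xi]
  rw [← proj_sum]
  congr 1
  funext t
  simp [Finset.sum_apply]

theorem xi_sub (η : IrrCharacter M) (f f' : G → ℂ) :
    xi M η (f - f') = xi M η f - xi M η f' := by
  simp only [xi]
  rw [← proj_sub]
  rfl

theorem xi_cut (η : IrrCharacter M) (f : G → ℂ) :
    xi M η (cut p M f) = cut p (M.subgroupOf (inertGrp M η)) (xi M η f) := by
  haveI : (M.subgroupOf (inertGrp M η)).Normal := hM.subgroupOf _
  rw [xi, cut_comp, proj_cut le_rfl]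
  rfl

theorem over_etaT_iff [Fintype M] (η : IrrCharacter M) (φ : IrrCharacter (inertGrp M η)) :
    proj (M.subgroupOf (inertGrp M η)) (etaT M η) (φ : inertGrp M η → ℂ) = φ ↔
      classInner (fun n : M => (φ : inertGrp M η → ℂ) ⟨(n : G), le_inertGrp M η n.2⟩)
        (η : M → ℂ) ≠ 0 := by
  have := Fintype.ofFinite (M.subgroupOf (inertGrp M η))
  rw [over_iff (inv_etaT M η)]
  refine not_congr (Eq.congr ?_ rfl)
  refine Eq.trans ?_ (classInner_comp_equiv (Subgroup.subgroupOfEquivOfLe (le_inertGrp M η))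
    (fun n : M => (φ : inertGrp M η → ℂ) ⟨(n : G), le_inertGrp M η n.2⟩) (η : M → ℂ))
  exact congrArg₂ classInner rfl (funext fun x => extendByZero_mem M (η : M → ℂ) x.2)

/-- The Clifford correspondent as a projection. -/
theorem exists_xi {η : IrrCharacter M} {χ : IrrCharacter G} (h : Under M η χ) :
    ∃ ψ : IrrCharacter (inertGrp M η),
      proj (M.subgroupOf (inertGrp M η)) (etaT M η) (ψ : inertGrp M η → ℂ) = ψ ∧
      xi M η (χ : G → ℂ) = ψ ∧
      ∀ [Fintype G], indFun (inertGrp M η) (ψ : inertGrp M η → ℂ) = (χ : G → ℂ) := by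
  have := Fintype.ofFinite G
  have := Fintype.ofFinite M
  have := Fintype.ofFinite (inertGrp M η)
  rw [under_iff] at h
  obtain ⟨ψ, hψ, hind, hmult, huniq⟩ := CharApp.exists_correspondent M η.2 χ.2 h
  have hres : IsClassFunction (inertGrp M η) (fun t : inertGrp M η => (χ : G → ℂ) t) :=
    fun a b => IsIrrCharacter.isClassFunction χ.2 (a : G) b
  have hover : proj (M.subgroupOf (inertGrp M η)) (etaT M η) ψ = ψ :=
    (over_etaT_iff M η ⟨ψ, hψ⟩).2 (by rw [hmult]; exact h)
  refine ⟨⟨ψ, hψ⟩, hover, ?_, fun {_} => by convert hind⟩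
  refine classFunction_ext (isClassFunction_proj (inv_etaT M η) hres)
    (IsIrrCharacter.isClassFunction hψ) fun φ => ?_
  by_cases hφ : proj (M.subgroupOf (inertGrp M η)) (etaT M η) (φ : inertGrp M η → ℂ) = φ
  · rw [xi, classInner_proj_of_over (inv_etaT M η) hres hφ]
    by_cases he : (φ : inertGrp M η → ℂ) = ψ
    · have h1 : classInner (indFun (inertGrp M η) ψ) (χ : G → ℂ) = 1 := by
        rw [hind, classInner_irr_self χ.2]
      rw [frobenius_reciprocity (inertGrp M η) _ (IsIrrCharacter.isClassFunction χ.2),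
        ← classInner_conj_symm, map_eq_one_iff _ (starRingEnd ℂ).injective] at h1
      rw [he, classInner_irr_self hψ, h1]
    · show _ = classInner ψ _
      rw [classInner_irr_of_ne hψ φ.2 fun e => he e.symm]
      by_contra hne
      exact he (huniq _ φ.2 hne ((over_etaT_iff M η φ).1 hφ))
  · rw [xi, classInner_proj_of_not (inv_etaT M η) hres hφ]
    show _ = classInner ψ _
    rw [classInner_irr_of_ne hψ φ.2 fun e => hφ (e ▸ hover)]

theorem xi_of_not_under {η : IrrCharacter M} {χ : IrrCharacter G} (h : ¬ Under M η χ) :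
    xi M η (χ : G → ℂ) = 0 := by
  have := Fintype.ofFinite G
  have := Fintype.ofFinite M
  have := Fintype.ofFinite (inertGrp M η)
  rw [under_iff] at h
  have hres : IsClassFunction (inertGrp M η) (fun t : inertGrp M η => (χ : G → ℂ) t) :=
    fun a b => IsIrrCharacter.isClassFunction χ.2 (a : G) b
  refine eq_zero_of_forall_classInner_irr (isClassFunction_proj (inv_etaT M η) hres) fun φ => ?_
  by_cases hφ : proj (M.subgroupOf (inertGrp M η)) (etaT M η) (φ : inertGrp M η → ℂ) = φ
  · rw [xi, classInner_proj_of_over (inv_etaT M η) hres hφ]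
    by_contra hne
    obtain ⟨hirr, hmult, -⟩ :=
      CharApp.clifford_correspondence M η.2 φ.2 ((over_etaT_iff M η φ).1 hφ)
    have h1 : classInner (indFun (inertGrp M η) (φ : inertGrp M η → ℂ)) (χ : G → ℂ) ≠ 0 := by
      rw [frobenius_reciprocity (inertGrp M η) _ (IsIrrCharacter.isClassFunction χ.2),
        ← classInner_conj_symm, Ne, map_eq_zero]
      exact hne
    have he : indFun (inertGrp M η) (φ : inertGrp M η → ℂ) = (χ : G → ℂ) :=
      by_contra fun hn => h1 (classInner_irr_of_ne hirr χ.2 hn)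
    rw [he] at hmult
    exact h (by rw [hmult]; exact (over_etaT_iff M η φ).1 hφ)
  · rw [xi, classInner_proj_of_not (inv_etaT M η) hres hφ]

theorem xi_injective {η : IrrCharacter M} {χ χ' : IrrCharacter G} (h : Under M η χ)
    (h' : Under M η χ') (he : xi M η (χ : G → ℂ) = xi M η (χ' : G → ℂ)) : χ = χ' := by
  have := Fintype.ofFinite G
  obtain ⟨ψ, -, hx, hi⟩ := exists_xi M h
  obtain ⟨ψ', -, hx', hi'⟩ := exists_xi M h'
  rw [hx, hx'] at he
  exact Subtype.ext (by rw [← hi, ← hi', he])

theorem exists_ind {η : IrrCharacter M} {ψ : IrrCharacter (inertGrp M η)}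
    (h : proj (M.subgroupOf (inertGrp M η)) (etaT M η) (ψ : inertGrp M η → ℂ) = ψ) :
    ∃ χ : IrrCharacter G, Under M η χ ∧ xi M η (χ : G → ℂ) = ψ := by
  have := Fintype.ofFinite G
  have := Fintype.ofFinite M
  have := Fintype.ofFinite (inertGrp M η)
  have hne := (over_etaT_iff M η ψ).1 h
  obtain ⟨hirr, hmult, huniq⟩ := CharApp.clifford_correspondence M η.2 ψ.2 hne
  have hu : Under M η ⟨_, hirr⟩ := (under_iff M η _).2 (by rw [← hmult] at hne; exact hne)
  obtain ⟨ψ', hψ', hx, hi⟩ := exists_xi M hu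
  refine ⟨⟨_, hirr⟩, hu, hx.trans ?_⟩
  exact huniq _ ψ'.2 ((over_etaT_iff M η ψ').1 hψ') hi

variable {M} {L : Subgroup G} {θ : G → ℂ}

omit hM in
theorem over_iff_of_under (hθ : Inv L θ) (hLM : L ≤ M) {η : IrrCharacter M} {χ : IrrCharacter G}
    (h : Under M η χ) :
    proj L θ (χ : G → ℂ) = (χ : G → ℂ) ↔
      proj (L.subgroupOf M) (fun x : M => θ x) (η : M → ℂ) = (η : M → ℂ) := by
  have := Fintype.ofFinite M
  rw [under_iff] at h
  have hc : IsClassFunction M (fun x : M => (χ : G → ℂ) x) :=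
    fun a b => IsIrrCharacter.isClassFunction χ.2 (a : G) b
  constructor
  · intro hχ
    by_contra hne
    exact h (classInner_eq_zero_of_fixed (hθ.subgroupOf hLM) hc (by rw [proj_comp hLM, hχ]) hne)
  · intro hη
    refine (proj_irr hθ χ).resolve_right fun h0 => h ?_
    rw [← classInner_proj_of_over (hθ.subgroupOf hLM) hc hη, proj_comp hLM, h0]
    exact classInner_zero_left _

theorem detChar_natCast_smul {A : Type*} [Group A] [Finite A] {χ : A → ℂ} (hχ : IsCharacter A χ)
    (e : ℕ) : detChar ((e : ℂ) • χ) = detChar χ ^ e := by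
  induction e with
  | zero =>
    rw [Nat.cast_zero, zero_smul, pow_zero]
    have h := RelDegree.detChar_add (isCharacter_zero (G := A)) (isCharacter_zero (G := A))
    rw [add_zero] at h
    funext a
    obtain ⟨l, hl⟩ := CharExtend.exists_detChar_eq (isCharacter_zero (G := A))
    have h0 : detChar (0 : A → ℂ) a ≠ 0 := by rw [hl]; exact (l a).ne_zero
    have h1 := congrFun h a
    rw [Pi.mul_apply] at h1
    exact (mul_eq_left₀ h0).1 h1.symm
  | succ e ih =>
    rw [Nat.cast_succ, add_smul, one_smul,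
      RelDegree.detChar_add (IsCharacter.natCast_smul hχ e) hχ, ih, pow_succ]

/-- The triple of the inertia group. -/
theorem tri_inertia [Fact p.Prime] (hT : Tri p L θ) (hLM : L ≤ M) (hidx : ¬ p ∣ L.relIndex M)
    {η : IrrCharacter M}
    (hη : proj (L.subgroupOf M) (fun x : M => θ x) (η : M → ℂ) = (η : M → ℂ)) :
    Tri p (M.subgroupOf (inertGrp M η)) (etaT M η) := by
  classical
  have hp : p.Prime := Fact.out
  have := Fintype.ofFinite M
  have := Fintype.ofFinite (L.subgroupOf M)
  have hN : (L.subgroupOf M).Normal := hT.normal.subgroupOf M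
  have hθ' := hT.toInv.subgroupOf hLM
  have hne := (over_iff hθ').1 hη
  set θ' : L.subgroupOf M → ℂ := fun x => θ (x : M) with hθ'def
  obtain ⟨d, -, hd⟩ := IsIrrCharacter.exists_degree hθ'.irr
  obtain ⟨c, -, hc⟩ := IsIrrCharacter.exists_degree η.2
  have hdeq : charDegree (fun l : L => θ l) = d := by
    have h1 : θ 1 = (d : ℂ) := hd
    simp [charDegree, h1]
  have heq : (fun x : M.subgroupOf (inertGrp M η) => etaT M η x) = fun x =>
      (η : M → ℂ) (Subgroup.subgroupOfEquivOfLe (le_inertGrp M η) x) :=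
    funext fun x => extendByZero_mem M (η : M → ℂ) x.2
  refine ⟨inv_etaT M η, ?_, ?_⟩
  · rw [heq, show charDegree (fun x : M.subgroupOf (inertGrp M η) =>
      (η : M → ℂ) (Subgroup.subgroupOfEquivOfLe (le_inertGrp M η) x)) = c by simp [charDegree, hc]]
    obtain ⟨h1, h2⟩ := S0887.result (L.subgroupOf M) (η : M → ℂ) η.2 θ' hθ'.irr hne c d hc hd
    intro hdvd
    rw [← Nat.div_mul_cancel h1] at hdvd
    rcases (Nat.Prime.dvd_mul hp).1 hdvd with h | h
    exacts [hidx (h.trans h2), hT.deg (hdeq ▸ h)]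
  · rw [heq, detOrder_comp_equiv (IsIrrCharacter.isCharacter η.2)]
    have hθc : IsCharacter (L.subgroupOf M) θ' := IsIrrCharacter.isCharacter hθ'.irr
    have hηc := IsIrrCharacter.isCharacter η.2
    obtain ⟨e, he⟩ := IsCharacter.classInner_nat
      (IsCharacter.restrict hηc (L.subgroupOf M)) hθc
    have hres : (fun n : L.subgroupOf M => (η : M → ℂ) n) = (e : ℂ) • θ' := by
      rw [← he]
      exact CharApp.restrict_invariant (L.subgroupOf M) η.2 hθ'.irr hne fun x => funext fun n => by
        rw [CliffordChar.conjFun_apply]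
        simpa [hθ'def] using hθ'.inv x⁻¹ n n.2
    have hdvd : detOrder (η : M → ℂ) ∣ (L.subgroupOf M).index * detOrder (fun l : L => θ l) := by
      rw [detOrder_dvd_iff]
      intro m
      obtain ⟨l, hl⟩ := CharExtend.exists_detChar_eq hηc
      have hmem : m ^ (L.subgroupOf M).index ∈ L.subgroupOf M := Subgroup.pow_index_mem _ m
      have h1 : detChar (η : M → ℂ) m ^ (L.subgroupOf M).index =
          detChar (η : M → ℂ) (m ^ (L.subgroupOf M).index) := by
        rw [hl, CharExtend.valHom_apply, CharExtend.valHom_apply, map_pow, Units.val_pow_eq_pow_val]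
      have h2 : detChar (η : M → ℂ) (m ^ (L.subgroupOf M).index) =
          detChar θ' ⟨_, hmem⟩ ^ e := by
        rw [← Pi.pow_apply, ← detChar_natCast_smul hθc, ← hres,
          CharExtend.detChar_restrict hηc]
      rw [pow_mul, h1, h2, ← pow_mul, mul_comm, pow_mul,
        (detOrder_dvd_iff θ' _).1 ?_ ⟨_, hmem⟩, one_pow]
      exact (detOrder_comp_equiv (χ := fun l : L => θ l) (IsIrrCharacter.isCharacter hT.irr)
        (Subgroup.subgroupOfEquivOfLe hLM)).dvd
    intro hd'
    rcases (Nat.Prime.dvd_mul hp).1 (hd'.trans hdvd) with h | h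
    exacts [hidx h, hT.det h]

variable (M)

/-- The chosen member of the orbit of `η`. -/
noncomputable def orbRep (η : IrrCharacter M) : IrrCharacter M :=
  @Classical.epsilon _ ⟨η⟩ fun η' : IrrCharacter M =>
    ∃ x : G, CliffordChar.conjFun M x (η : M → ℂ) = (η' : M → ℂ)

omit [Finite G] in
theorem orbRep_spec (η : IrrCharacter M) :
    ∃ x : G, CliffordChar.conjFun M x (η : M → ℂ) = (orbRep M η : M → ℂ) :=
  @Classical.epsilon_spec _ (fun η' : IrrCharacter M =>
    ∃ x : G, CliffordChar.conjFun M x (η : M → ℂ) = (η' : M → ℂ))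
    ⟨η, 1, CliffordChar.conjFun_one M _⟩

omit [Finite G] in
theorem orbRep_eq {η η' : IrrCharacter M} {x : G}
    (h : CliffordChar.conjFun M x (η : M → ℂ) = (η' : M → ℂ)) : orbRep M η' = orbRep M η := by
  simp only [orbRep]
  congr 1
  funext η''
  refine propext ⟨fun ⟨y, hy⟩ => ⟨y * x, by rw [CliffordChar.conjFun_mul, h, hy]⟩,
    fun ⟨y, hy⟩ => ⟨y * x⁻¹, ?_⟩⟩
  rw [← h, ← CliffordChar.conjFun_mul, inv_mul_cancel_right, hy]

/-- `η` is the chosen member of its orbit. -/
def Sel (η : IrrCharacter M) : Prop := orbRep M η = η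

theorem existsUnique_sel (χ : IrrCharacter G) : ∃! η, Sel M η ∧ Under M η χ := by
  have := Fintype.ofFinite M
  have := Fintype.ofFinite G
  have hχ := IsIrrCharacter.isCharacter χ.2
  obtain ⟨η₀, hη₀⟩ := CharApp.exists_constituent (IsCharacter.restrict hχ M)
    (IsIrrCharacter.apply_one_ne_zero χ.2)
  obtain ⟨x, hx⟩ := orbRep_spec M η₀
  refine ⟨orbRep M η₀, ⟨orbRep_eq M hx, (under_iff M _ χ).2 ?_⟩, fun η ⟨hs, hu⟩ => ?_⟩
  · rw [← hx, CliffordChar.classInner_restrict_conjFun M (IsCharacter.isClassFunction hχ)]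
    exact hη₀
  · obtain ⟨y, hy⟩ := CliffordChar.constituents_conjugate M χ.2 η.2 η₀.2
      ((under_iff M η χ).1 hu) hη₀
    exact hs.symm.trans (orbRep_eq M hy).symm

variable {M}

/-- The step over a factor of order prime to `p`. -/
theorem basis_of_pPrimeFactor [Fact p.Prime] [L.Normal] (hθ : Inv L θ) (hLM : L ≤ M)
    (hreg : ∀ x, Reg p M x → Reg p L x)
    (hB : ∀ η : IrrCharacter M,
      proj (L.subgroupOf M) (fun x : M => θ x) (η : M → ℂ) = (η : M → ℂ) →
      Basis p (M.subgroupOf (inertGrp M η)) (etaT M η)) :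
    Basis p L θ := by
  classical
  have := Fintype.ofFinite G
  have := Fintype.ofFinite M
  have := Fintype.ofFinite (IrrCharacter G)
  have := fun η : IrrCharacter M => Fintype.ofFinite (IrrCharacter (inertGrp M η))
  choose sel hsel hsel' using existsUnique_sel M
  let OvM : IrrCharacter M → Prop := fun η =>
    proj (L.subgroupOf M) (fun x : M => θ x) (η : M → ℂ) = (η : M → ℂ)
  choose F hF1 hF2 hF3 using hB
  let xiI : (η : IrrCharacter M) → IrrCharacter G → IrrCharacter (inertGrp M η) := fun η χ =>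
    if h : Under M η χ then Classical.choose (exists_xi M h) else ⟨1, isIrrCharacter_one⟩
  have hxiI : ∀ η χ, Under M η χ → (xi M η (χ : G → ℂ) = (xiI η χ : inertGrp M η → ℂ) ∧
      proj (M.subgroupOf (inertGrp M η)) (etaT M η) (xiI η χ : inertGrp M η → ℂ) = xiI η χ) := by
    intro η χ h
    simp only [xiI, dif_pos h]
    exact ⟨(Classical.choose_spec (exists_xi M h)).2.1, (Classical.choose_spec (exists_xi M h)).1⟩
  let S : Finset (IrrCharacter G) := Finset.univ.filter fun χ =>
    ∃ h : OvM (sel χ), xiI (sel χ) χ ∈ F (sel χ) h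
  have hSη : ∀ η, Sel M η → ∀ χ, Under M η χ → sel χ = η :=
    fun η hs χ hu => (hsel' χ η ⟨hs, hu⟩).symm
  -- the members of `S` over a chosen constituent correspond to its basis
  have hmaps : ∀ η (ho : OvM η), Sel M η → ∀ χ ∈ S.filter (Under M η), xiI η χ ∈ F η ho := by
    intro η ho hs χ hχ
    obtain ⟨hS, hu⟩ := Finset.mem_filter.1 hχ
    obtain rfl := hSη η hs χ hu
    obtain ⟨_, h⟩ := (Finset.mem_filter.1 hS).2
    exact h
  have hinj : ∀ η, ∀ χ ∈ S.filter (Under M η), ∀ χ' ∈ S.filter (Under M η),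
      xiI η χ = xiI η χ' → χ = χ' := by
    intro η χ hχ χ' hχ' he
    have hu := (Finset.mem_filter.1 hχ).2
    have hu' := (Finset.mem_filter.1 hχ').2
    exact xi_injective M hu hu' (by rw [(hxiI η χ hu).1, (hxiI η χ' hu').1, he])
  have hsurj : ∀ η (ho : OvM η), Sel M η → ∀ φ ∈ F η ho,
      ∃ χ ∈ S.filter (Under M η), xiI η χ = φ := by
    intro η ho hs φ hφ
    obtain ⟨χ, hu, hx⟩ := exists_ind M (hF1 η ho φ hφ)
    have he : xiI η χ = φ := Subtype.ext (by rw [← (hxiI η χ hu).1, hx])
    have hsη := hSη η hs χ hu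
    refine ⟨χ, Finset.mem_filter.2 ⟨Finset.mem_filter.2 ⟨Finset.mem_univ _, ?_⟩, hu⟩, he⟩
    subst hsη
    exact ⟨ho, he ▸ hφ⟩
  have hcut : ∀ f : G → ℂ, cut p L f = cut p M f := fun f => funext fun x => by
    by_cases h : Reg p L x
    · rw [cut_of_reg _ h, cut_of_reg _ (h.mono hLM)]
    · rw [cut_of_not _ h, cut_of_not _ fun h' => h (hreg x h')]
  have hxicut : ∀ η (a : IrrCharacter G → ℂ),
      xi M η (∑ χ ∈ S, a χ • cut p L (χ : G → ℂ)) =
        ∑ χ ∈ S.filter (Under M η),
          a χ • cut p (M.subgroupOf (inertGrp M η)) (xiI η χ : inertGrp M η → ℂ) := by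
    intro η a
    rw [xi_sum, Finset.sum_filter (s := S)]
    refine Finset.sum_congr rfl fun χ _ => ?_
    rw [xi_smul, hcut, xi_cut]
    split_ifs with hu
    · rw [(hxiI η χ hu).1]
    · rw [xi_of_not_under M hu]
      funext t
      by_cases ht : Reg p (M.subgroupOf (inertGrp M η)) t
      · simp [cut_of_reg _ ht]
      · simp [cut_of_not _ ht]
  have hover : ∀ χ ∈ S, proj L θ (χ : G → ℂ) = (χ : G → ℂ) := fun χ hχ =>
    (over_iff_of_under hθ hLM (hsel χ).2).2 (Finset.mem_filter.1 hχ).2.1
  refine ⟨S, hover, fun a ha χ hχ => ?_, fun f hf => ?_⟩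
  · -- independence
    obtain ⟨ho, hmem⟩ := (Finset.mem_filter.1 hχ).2
    set η := sel χ
    have h0 := hxicut η a
    rw [ha, show xi M η (0 : G → ℂ) = 0 from proj_zero _ _] at h0
    have h0' : ∑ φ ∈ F η ho, (∑ χ' ∈ S.filter (Under M η) with xiI η χ' = φ, a χ') •
        cut p (M.subgroupOf (inertGrp M η)) (φ : inertGrp M η → ℂ) = 0 := by
      rw [h0, ← Finset.sum_fiberwise_of_maps_to (hmaps η ho (hsel χ).1)]
      refine Finset.sum_congr rfl fun φ _ => ?_
      rw [Finset.sum_smul]
      exact Finset.sum_congr rfl fun χ' hχ' => by rw [(Finset.mem_filter.1 hχ').2]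
    have h1 := hF2 η ho _ h0' (xiI η χ) hmem
    have hχη : χ ∈ S.filter (Under M η) := Finset.mem_filter.2 ⟨hχ, (hsel χ).2⟩
    refine Eq.trans (Eq.symm (Finset.sum_eq_single (s := (S.filter (Under M η)).filter
      fun χ' => xiI η χ' = xiI η χ) (f := a) χ ?_ ?_)) h1
    · exact fun χ' hχ' hne => absurd
        (hinj η χ' (Finset.mem_filter.1 hχ').1 χ hχη (Finset.mem_filter.1 hχ').2) hne
    · exact fun h => absurd
        ((Finset.mem_filter (p := fun χ' => xiI η χ' = xiI η χ)).2 ⟨hχη, rfl⟩) h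
  · -- spanning
    have hfM : f = cut p M f := funext fun x => by
      by_cases h : Reg p M x
      · rw [cut_of_reg _ h]
      · rw [cut_of_not _ h, hf.supp x fun h' => h (h'.mono hLM)]
    have hpos : ∀ η, Positive p (M.subgroupOf (inertGrp M η)) (etaT M η) (xi M η f) := by
      intro η
      have hres : IsClassFunction (inertGrp M η) (fun t : inertGrp M η => f t) :=
        fun a b => hf.isClass (a : G) b
      refine ⟨isClassFunction_proj (inv_etaT M η) hres, fun t ht => ?_,
        proj_proj (inv_etaT M η) hres, fun H hMH hH => ?_⟩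
      · rw [hfM, xi_cut, cut_of_not _ ht]
      · have hH' := hf.char (H.map (inertGrp M η).subtype)
          (fun l hl => ⟨⟨l, le_inertGrp M η (hLM hl)⟩, hMH (hLM hl), rfl⟩)
          (by rintro _ ⟨y, hy, rfl⟩; exact hreg _ ((reg_subgroupOf _).1 (hH y hy)))
        have hfH : IsCharacter H (fun h : H => f ((h : inertGrp M η) : G)) :=
          IsCharacter.comp_equiv hH'
            (H.equivMapOfInjective _ (inertGrp M η).subtype_injective)
        rw [xi, ← proj_comp hMH (etaT M η) fun t : inertGrp M η => f t]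
        exact isCharacter_proj ((inv_etaT M η).subgroupOf hMH) hfH
    choose k hk using fun η ho => hF3 η ho _ (hpos η)
    let n : IrrCharacter G → ℕ := fun χ =>
      if ho : OvM (sel χ) then k (sel χ) ho (xiI (sel χ) χ) else 0
    refine ⟨n, ?_⟩
    set g := f - ∑ χ ∈ S, (n χ : ℂ) • cut p L (χ : G → ℂ) with hgdef
    have hgc : IsClassFunction G g := isClassFunction_sub hf.isClass
      (isClassFunction_sum _ fun χ _ => isClassFunction_smul
        (isClassFunction_cut (IsIrrCharacter.isClassFunction χ.2)) _)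
    have hgf : proj L θ g = g := by
      rw [hgdef, proj_sub, hf.fix, proj_sum]
      congr 1
      refine Finset.sum_congr rfl fun χ hχ => ?_
      rw [proj_smul, proj_cut le_rfl, hover χ hχ]
    have hzero : ∀ η (ho : OvM η), Sel M η → xi M η g = 0 := by
      intro η ho hs
      rw [hgdef, xi_sub, hxicut, hk η ho, sub_eq_zero]
      refine (Finset.sum_bij (fun χ _ => xiI η χ) (hmaps η ho hs)
        (fun χ hχ χ' hχ' => hinj η χ hχ χ' hχ')
        (fun φ hφ => let ⟨χ, h1, h2⟩ := hsurj η ho hs φ hφ; ⟨χ, h1, h2⟩) fun χ hχ => ?_).symm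
      obtain rfl := hSη η hs χ (Finset.mem_filter.1 hχ).2
      simp only [n, dif_pos ho]
    refine sub_eq_zero.1 (eq_zero_of_forall_classInner_irr hgc fun χ => ?_)
    by_cases hχ : proj L θ (χ : G → ℂ) = (χ : G → ℂ)
    swap
    · exact classInner_eq_zero_of_fixed hθ hgc hgf hχ
    obtain ⟨hs, hu⟩ := hsel χ
    have ho : OvM (sel χ) := (over_iff_of_under hθ hLM hu).1 hχ
    have h0 := hzero (sel χ) ho hs
    have := Fintype.ofFinite (inertGrp M (sel χ))
    have h1 := congrArg (fun F => classInner F (xiI (sel χ) χ : inertGrp M (sel χ) → ℂ)) h0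
    simp only [classInner_zero_left] at h1
    rw [classFunction_eq_sum hgc, xi_sum, classInner_sum_left, Finset.sum_eq_single χ, xi_smul,
      classInner_smul_left, (hxiI _ χ hu).1, classInner_irr_self (xiI _ χ).2, mul_one] at h1
    · exact h1
    · intro χ' _ hne
      rw [xi_smul, classInner_smul_left]
      by_cases hu' : Under M (sel χ) χ'
      · rw [(hxiI _ χ' hu').1, classInner_irr_of_ne (xiI _ χ').2 (xiI _ χ).2 fun he => hne
          (xi_injective M hu' hu (by rw [(hxiI _ χ' hu').1, (hxiI _ χ hu).1, he])), mul_zero]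
      · rw [xi_of_not_under M hu', classInner_zero_left, mul_zero]
    · simp

end Cfsg.Agent.ProjPositive
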