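/-
The induction and its corollary for `L = ⊥`, namespace `Cfsg.Agent.ProjPositive`.

* `exists_factor` : a `p`- or `p'`-factor above a proper normal subgroup of a `p`-solvable group
* `basis` : every triple has a free basis of positive functions
* `exists_basis_bot` : irreducible characters whose regular parts are a free nonnegative basis
* `classInner_regPart_eq_zero` : a set with weighted sum vanishing off the regular elements
-/
import Cfsg.Agent.Lib.ProjPositive.PrimeStep
import Cfsg.Agent.Lib.PLocal.ActionStable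
import Cfsg.Prelude.Def_BlockRank

set_option autoImplicit false
set_option linter.style.haveILetI false

universe u

namespace Cfsg.Agent.ProjPositive

open Cfsg Cfsg.Agent.Char
open scoped ComplexConjugate

variable {p : ℕ}

theorem exists_factor [Fact p.Prime] {G : Type u} [Group G] [Finite G] (h : IsPSolvable p G)
    {L : Subgroup G} [L.Normal] (hL : L ≠ ⊤) :
    ∃ M : Subgroup G, M.Normal ∧ L < M ∧
      ((∃ k, L.relIndex M = p ^ k) ∨ ¬ p ∣ L.relIndex M) := by
  classical
  obtain ⟨n, H, h0, hlast, hmono, hnorm, hstep⟩ := h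
  have hex : ∃ j : ℕ, ∃ hj : j < n + 1, ¬ H ⟨j, hj⟩ ≤ L :=
    ⟨n, Nat.lt_succ_self n, fun hle => hL (top_le_iff.1 (hlast ▸ hle))⟩
  obtain ⟨hj, hjL⟩ := Nat.find_spec hex
  obtain ⟨i, hi⟩ : ∃ i, Nat.find hex = i + 1 :=
    Nat.exists_eq_succ_of_ne_zero fun h' => hjL (by
      rw [show (⟨Nat.find hex, hj⟩ : Fin (n + 1)) = 0 from Fin.ext h', h0]; exact bot_le)
  have hin : i < n := by omega
  have hle : H (Fin.castSucc ⟨i, hin⟩) ≤ L := by_contra fun hno =>
    Nat.find_min hex (show i < Nat.find hex by omega) ⟨by omega, hno⟩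
  have hne : ¬ H (Fin.succ ⟨i, hin⟩) ≤ L := by
    rwa [show Fin.succ ⟨i, hin⟩ = ⟨Nat.find hex, hj⟩ from Fin.ext hi.symm]
  haveI := hnorm (Fin.succ ⟨i, hin⟩)
  refine ⟨H (Fin.succ ⟨i, hin⟩) ⊔ L, inferInstance,
    lt_of_le_of_ne le_sup_right fun he => hne (le_sup_left.trans he.ge), ?_⟩
  rw [Subgroup.relIndex_sup_right]
  have hd := Subgroup.relIndex_dvd_of_le_left (H (Fin.succ ⟨i, hin⟩)) hle
  rcases hstep ⟨i, hin⟩ with ⟨m, hm⟩ | hc
  · rw [hm] at hd
    obtain ⟨k, -, hk⟩ := (Nat.dvd_prime_pow (Fact.out : p.Prime)).1 hd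
    exact Or.inl ⟨k, hk⟩
  · exact Or.inr fun hp => (Fact.out : p.Prime).one_lt.ne'
      (Nat.dvd_one.1 (hc ▸ Nat.dvd_gcd (hp.trans hd) dvd_rfl))

theorem basis_top [Fact p.Prime] {G : Type u} [Group G] [Finite G] {θ : G → ℂ}
    (hθ : Inv (⊤ : Subgroup G) θ) : Basis p ⊤ θ := by
  classical
  have := Fintype.ofFinite G
  have := Fintype.ofFinite (IrrCharacter G)
  have hirr : IsIrrCharacter G θ :=
    IsIrrCharacter.comp_equiv hθ.irr (Subgroup.topEquiv (G := G)).symm
  let t : IrrCharacter G := ⟨θ, hirr⟩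
  have hinner : ∀ χ : G → ℂ, classInner (fun l : (⊤ : Subgroup G) => χ l)
      (fun l : (⊤ : Subgroup G) => θ l) = classInner χ θ :=
    fun χ => classInner_comp_equiv (Subgroup.topEquiv (G := G)) χ θ
  have ht : proj ⊤ θ θ = θ :=
    proj_irr_of_ne hθ (χ := t) (by rw [hinner, classInner_irr_self hirr]; exact one_ne_zero)
  have hreg : ∀ x : G, Reg p (⊤ : Subgroup G) x := fun x => reg_of_mem (Subgroup.mem_top x)
  have hcut : ∀ f : G → ℂ, cut p ⊤ f = f := fun f => funext fun x => cut_of_reg _ (hreg x)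
  refine ⟨{t}, by simpa using ht, fun a ha ξ hξ => ?_, fun f hf => ?_⟩
  · obtain rfl := Finset.mem_singleton.1 hξ
    rw [Finset.sum_singleton, hcut] at ha
    exact (smul_eq_zero.1 ha).resolve_right (IsIrrCharacter.ne_zero hirr)
  · have hc : IsCharacter G f :=
      IsCharacter.comp_equiv (hf.char ⊤ le_rfl fun x _ => hreg x)
        (Subgroup.topEquiv (G := G)).symm
    obtain ⟨m, hm⟩ := IsCharacter.classInner_nat hc (IsIrrCharacter.isCharacter hirr)
    refine ⟨fun _ => m, ?_⟩
    rw [Finset.sum_singleton, hcut]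
    conv_lhs => rw [classFunction_eq_sum hf.isClass]
    rw [Finset.sum_eq_single t, ← hm]
    · intro χ _ hne
      rw [classInner_eq_zero_of_fixed hθ hf.isClass hf.fix, zero_smul]
      intro hχ
      refine (over_iff hθ).1 hχ ?_
      rw [hinner, classInner_irr_of_ne χ.2 hirr fun he => hne (Subtype.ext he)]
    · simp

/-- Every triple of a `p`-solvable group has a free basis of positive functions. -/
theorem basis [Fact p.Prime] : ∀ (n : ℕ) {G : Type u} [Group G] [Finite G] (L : Subgroup G)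
    (θ : G → ℂ), L.index = n → IsPSolvable p G → Tri p L θ → Basis p L θ := by
  intro n
  induction n using Nat.strong_induction_on with
  | _ n ih =>
    intro G _ _ L θ hn hsolv hT
    subst hn
    haveI := hT.normal
    by_cases hL : L = ⊤
    · subst hL
      exact basis_top hT.toInv
    obtain ⟨M, hM, hlt, hfac⟩ := exists_factor hsolv hL
    haveI := hM
    have hidx : M.index < L.index := Subgroup.index_strictAnti hlt
    rcases hfac with ⟨k, hk⟩ | hk
    · obtain ⟨η, hη, hres⟩ := exists_extension hT hlt.le hk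
      exact basis_of_pFactor hlt.le hk hη.toInv hT.toInv hres (ih _ hidx M η rfl hsolv hη)
    · refine basis_of_pPrimeFactor hT.toInv hlt.le (fun x hx => ?_) fun η hη => ?_
      · obtain ⟨j, hj, hxj⟩ := hx
        refine ⟨j * L.relIndex M, fun h => ?_, ?_⟩
        · rcases (Nat.Prime.dvd_mul (Fact.out : p.Prime)).1 h with h | h
          exacts [hj h, hk h]
        · rw [pow_mul]
          haveI : (L.subgroupOf M).Normal := hT.normal.subgroupOf M
          exact Subgroup.pow_index_mem (L.subgroupOf M) ⟨_, hxj⟩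
      · refine ih _ ?_ _ _ rfl (PLocal.isPSolvable_subgroup hsolv _)
          (tri_inertia hT hlt.le hk hη)
        refine lt_of_le_of_lt (Nat.le_of_dvd (Nat.pos_of_ne_zero Subgroup.index_ne_zero_of_finite)
          ?_) hidx
        exact Subgroup.relIndex_dvd_index_of_normal M (inertGrp M η)

/-- Irreducible characters whose regular parts are a free basis of the regular parts. -/
theorem exists_basis_bot [Fact p.Prime] {G : Type u} [Group G] [Finite G] (h : IsPSolvable p G) :
    ∃ F : Finset (IrrCharacter G),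
      (∀ a : IrrCharacter G → ℂ, ∑ ξ ∈ F, a ξ • pRegularPart p (ξ : G → ℂ) = 0 →
        ∀ ξ ∈ F, a ξ = 0) ∧
      ∀ χ : IrrCharacter G, ∃ d : IrrCharacter G → ℕ,
        pRegularPart p (χ : G → ℂ) = ∑ ξ ∈ F, (d ξ : ℂ) • pRegularPart p (ξ : G → ℂ) := by
  classical
  have hp : p.Prime := Fact.out
  have := Fintype.ofFinite (⊥ : Subgroup G)
  have hsub : ∀ x : (⊥ : Subgroup G), x = 1 := fun x => Subtype.ext (Subgroup.mem_bot.1 x.2)
  have hT : Tri p (⊥ : Subgroup G) (1 : G → ℂ) := by
    refine ⟨⟨inferInstance, isIrrCharacter_one, fun _ _ _ => rfl⟩, ?_, ?_⟩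
    · rw [show charDegree (fun l : (⊥ : Subgroup G) => (1 : G → ℂ) l) = 1 by simp [charDegree]]
      exact hp.not_dvd_one
    · intro hd
      refine hp.not_dvd_one (hd.trans ((detOrder_dvd_iff _ 1).2 fun a => ?_))
      obtain ⟨l, hl⟩ := CharExtend.exists_detChar_eq
        (χ := fun l : (⊥ : Subgroup G) => (1 : G → ℂ) l)
        (IsIrrCharacter.isCharacter isIrrCharacter_one)
      rw [hl, hsub a]
      simp
  obtain ⟨F, -, hF2, hF3⟩ := basis _ (⊥ : Subgroup G) (1 : G → ℂ) rfl h hT
  have hcut : ∀ f : G → ℂ, cut p (⊥ : Subgroup G) f = pRegularPart p f := fun f => funext fun x => by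
    by_cases hx : ¬ p ∣ orderOf x
    · rw [cut_of_reg _ ((reg_bot_iff x).2 hx)]
      simp [pRegularPart, IsPRegular, hx]
    · rw [cut_of_not _ (mt (reg_bot_iff x).1 hx)]
      simp only [not_not] at hx
      simp [pRegularPart, IsPRegular, hx]
  refine ⟨F, by simpa only [hcut] using hF2, fun χ => ?_⟩
  simp only [← hcut]
  refine hF3 _ ⟨isClassFunction_cut (IsIrrCharacter.isClassFunction χ.2),
    fun x hx => cut_of_not _ hx, ?_, fun H _ hH => ?_⟩
  · funext x
    have := Fintype.ofFinite (⊥ : Subgroup G)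
    haveI : Unique (⊥ : Subgroup G) := ⟨⟨1⟩, hsub⟩
    rw [proj_eq_sum, Fintype.sum_unique]
    simp [hsub default]
  · rw [show (fun x : H => cut p ⊥ (χ : G → ℂ) x) = fun x : H => (χ : G → ℂ) x from
      funext fun x => cut_of_reg _ (hH x x.2)]
    exact IsCharacter.restrict (IsIrrCharacter.isCharacter χ.2) H

/-- If `∑ χ ∈ U, χ(1) χ` vanishes at the singular elements then `U` is orthogonal to its
complement on the regular elements. -/
theorem classInner_regPart_eq_zero [Fact p.Prime] {G : Type u} [Group G] [Fintype G]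
    (h : IsPSolvable p G) {U : Set (IrrCharacter G)}
    (hU : ∀ x : G, p ∣ orderOf x → ∑ᶠ χ ∈ U, (χ : G → ℂ) 1 * (χ : G → ℂ) x = 0)
    {χ ψ : IrrCharacter G} (hχ : χ ∈ U) (hψ : ψ ∉ U) :
    classInner (pRegularPart p (χ : G → ℂ)) (ψ : G → ℂ) = 0 := by
  classical
  have := Fintype.ofFinite (IrrCharacter G)
  obtain ⟨F, hind, hspan⟩ := exists_basis_bot h
  choose d hd using hspan
  set reg : (G → ℂ) → G → ℂ := pRegularPart p with hregdef
  have hreg1 : ∀ f : G → ℂ, reg f 1 = f 1 := fun f => by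
    simp [hregdef, pRegularPart, IsPRegular, (Fact.out : p.Prime).ne_one]
  have hdeg : ∀ χ : IrrCharacter G, (χ : G → ℂ) 1 = ∑ ξ ∈ F, (d χ ξ : ℂ) * (ξ : G → ℂ) 1 := by
    intro χ
    have h1 := congrFun (hd χ) 1
    simpa [Finset.sum_apply, hreg1] using h1
  set Ψ : G → ℂ := ∑ χ ∈ Finset.univ.filter (· ∈ U), (χ : G → ℂ) 1 • (χ : G → ℂ) with hΨdef
  have hΨ0 : ∀ x, p ∣ orderOf x → Ψ x = 0 := by
    intro x hx
    rw [← hU x hx, hΨdef, Finset.sum_apply, finsum_mem_eq_sum_of_inter_support_eq]
    · rfl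
    · ext; simp
  have hΨreg : ∀ f : G → ℂ, classInner (reg f) Ψ = classInner f Ψ := by
    intro f
    unfold classInner
    congr 1
    refine Finset.sum_congr rfl fun x _ => ?_
    by_cases hx : p ∣ orderOf x
    · simp [hΨ0 x hx]
    · simp [hregdef, pRegularPart, IsPRegular, hx]
  have hΨinner : ∀ ξ : IrrCharacter G,
      classInner (reg (ξ : G → ℂ)) Ψ = if ξ ∈ U then (ξ : G → ℂ) 1 else 0 := by
    intro ξ
    have hone : conj ((ξ : G → ℂ) 1) = (ξ : G → ℂ) 1 := by
      obtain ⟨n, -, hn⟩ := IsIrrCharacter.exists_degree ξ.2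
      rw [hn, Complex.conj_natCast]
    rw [hΨreg, hΨdef, classInner_sum_right]
    simp only [classInner_smul_right, classInner_irr ξ.2 (Subtype.prop _), mul_ite, mul_one,
      mul_zero, ← Subtype.ext_iff]
    rw [Finset.sum_ite_eq]
    simp [hone]
  -- the decomposition numbers split along `U`
  have hsplit : ∀ χ ξ, ξ ∈ F → d χ ξ ≠ 0 → (χ ∈ U ↔ ξ ∈ U) := by
    intro χ ξ hξ hne
    have h1 : ∑ ξ ∈ F, (d χ ξ : ℂ) * (if ξ ∈ U then (ξ : G → ℂ) 1 else 0) =
        if χ ∈ U then (χ : G → ℂ) 1 else 0 := by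
      rw [← hΨinner χ, hd χ, classInner_sum_left]
      exact Finset.sum_congr rfl fun ξ _ => by rw [classInner_smul_left, hΨinner]
    choose deg hdpos hdeg' using fun ξ : IrrCharacter G => IsIrrCharacter.exists_degree ξ.2
    have h2 : ∑ ξ ∈ F, d χ ξ * (if ξ ∈ U then deg ξ else 0) =
        if χ ∈ U then ∑ ξ ∈ F, d χ ξ * deg ξ else 0 := by
      rw [hdeg χ] at h1
      simp only [hdeg'] at h1
      exact_mod_cast h1
    by_cases hc : χ ∈ U
    · refine iff_of_true hc (by_contra fun hx => ?_)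
      rw [if_pos hc] at h2
      have h3 := (Finset.sum_eq_sum_iff_of_le fun i _ =>
        Nat.mul_le_mul_left _ (by split_ifs <;> simp)).1 h2 ξ hξ
      rw [if_neg hx, mul_zero] at h3
      exact mul_ne_zero hne (hdpos ξ).ne' h3.symm
    · refine iff_of_false hc fun hx => ?_
      rw [if_neg hc, Finset.sum_eq_zero_iff] at h2
      have h3 := h2 ξ hξ
      rw [if_pos hx] at h3
      exact mul_ne_zero hne (hdpos ξ).ne' h3
  -- expand the regular part
  set w := reg (χ : G → ℂ) with hw
  have hwc : IsClassFunction G w := by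
    intro x y
    have hcl := IsIrrCharacter.isClassFunction χ.2 x y
    have ho : orderOf (y * x * y⁻¹) = orderOf x := (MulAut.conj y).orderOf_eq x
    by_cases hx : p ∣ orderOf x <;> simp [hw, hregdef, pRegularPart, IsPRegular, ho, hx, hcl]
  set v := ∑ φ ∈ Finset.univ.filter (· ∉ U), classInner w (φ : G → ℂ) • (φ : G → ℂ) with hv
  set u := ∑ φ ∈ Finset.univ.filter (· ∈ U), classInner w (φ : G → ℂ) • (φ : G → ℂ) with hu
  have hwe : w = u + v := by
    rw [hu, hv, Finset.sum_filter_add_sum_filter_not]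
    exact classFunction_eq_sum hwc
  have hlin : ∀ (s : Finset (IrrCharacter G)) (c : IrrCharacter G → ℂ),
      reg (∑ φ ∈ s, c φ • (φ : G → ℂ)) =
        ∑ ξ ∈ F, (∑ φ ∈ s, c φ * d φ ξ) • reg (ξ : G → ℂ) := by
    intro s c
    have h1 : reg (∑ φ ∈ s, c φ • (φ : G → ℂ)) = ∑ φ ∈ s, c φ • reg (φ : G → ℂ) := by
      funext x
      by_cases hx : p ∣ orderOf x <;>
        simp [hregdef, pRegularPart, IsPRegular, hx, Finset.sum_apply]
    rw [h1, Finset.sum_congr rfl fun φ _ => by rw [hd φ, Finset.smul_sum], Finset.sum_comm]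
    refine Finset.sum_congr rfl fun ξ _ => ?_
    rw [Finset.sum_smul]
    simp only [smul_smul]
  have hv0 : reg v = 0 := by
    have hregw : reg w = w := by
      funext x
      by_cases hx : p ∣ orderOf x <;> simp [hw, hregdef, pRegularPart, IsPRegular, hx]
    have h2 : reg u + reg v = reg (χ : G → ℂ) := by
      rw [← hw]
      conv_rhs => rw [← hregw, hwe]
      funext x
      by_cases hx : p ∣ orderOf x <;> simp [hregdef, pRegularPart, IsPRegular, hx]
    rw [hu, hv, hlin, hlin, hd χ, ← Finset.sum_add_distrib] at h2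
    simp only [← add_smul] at h2
    rw [← sub_eq_zero, ← Finset.sum_sub_distrib] at h2
    simp only [← sub_smul] at h2
    rw [hv, hlin]
    refine Finset.sum_eq_zero fun ξ hξ => ?_
    have h3 := hind _ h2 ξ hξ
    by_cases hξU : ξ ∈ U
    · rw [Finset.sum_eq_zero, zero_smul]
      intro φ hφ
      by_cases hne : d φ ξ = 0
      · simp [hne]
      · exact absurd ((hsplit φ ξ hξ hne).2 hξU) (Finset.mem_filter.1 hφ).2
    · have hA : ∑ φ ∈ Finset.univ.filter (· ∈ U), classInner w (φ : G → ℂ) * (d φ ξ : ℂ) = 0 := by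
        refine Finset.sum_eq_zero fun φ hφ => ?_
        by_cases hne : d φ ξ = 0
        · simp [hne]
        · exact absurd ((hsplit φ ξ hξ hne).1 (Finset.mem_filter.1 hφ).2) hξU
      have hB : (d χ ξ : ℂ) = 0 := by
        by_cases hne : d χ ξ = 0
        · simp [hne]
        · exact absurd ((hsplit χ ξ hξ hne).1 hχ) hξU
      rw [hA, hB, zero_add, sub_zero] at h3
      rw [h3, zero_smul]
  have hvv : classInner v v = 0 := by
    have h1 : classInner w v = 0 := by
      unfold classInner
      rw [Finset.sum_eq_zero, mul_zero]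
      intro x _
      by_cases hx : p ∣ orderOf x
      · simp [hw, hregdef, pRegularPart, IsPRegular, hx]
      · have := congrFun hv0 x
        simp [hregdef, pRegularPart, IsPRegular, hx] at this
        simp [this]
    have h2 : classInner u v = 0 := by
      rw [hu, hv, classInner_sum_left]
      refine Finset.sum_eq_zero fun φ hφ => ?_
      rw [classInner_smul_left, classInner_sum_right, Finset.sum_eq_zero, mul_zero]
      intro φ' hφ'
      rw [classInner_smul_right, classInner_irr_of_ne φ.2 φ'.2 fun he =>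
        (Finset.mem_filter.1 hφ').2 ((Subtype.ext he : φ = φ') ▸ (Finset.mem_filter.1 hφ).2),
        mul_zero]
    rwa [hwe, classInner_add_left, h2, zero_add] at h1
  have hvz := classInner_self_eq_zero.1 hvv
  have h4 := congrArg (fun f => classInner f (ψ : G → ℂ)) hvz
  simp only [classInner_zero_left, hv] at h4
  rwa [classInner_sum_smul _ _ ψ (Finset.mem_filter.2 ⟨Finset.mem_univ _, hψ⟩)] at h4

end Cfsg.Agent.ProjPositive
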